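import Cfsg.Agent.Mrg.Omega.All.NOne.TwoC
import Cfsg.Agent.Mrg.Omega.NOne.SU.Defs
import Cfsg.Agent.Mrg.Omega.NOne.SU.QuadFacts
import Cfsg.Agent.Mrg.Omega.All.Basic

section


/-!
# THEOREM ALL-N1, type (β): the instance

* `form_of` : the norm form of a quadratic extension is a `Form`;
* `two_of` : `GIn` (with `Q = O₂(N(R))`, `Q' = O₂(N(R'))`) gives `Two`;
* `two_hyp` : `Hyp d o2`, `Sy d o2 S (zc S)` give `Two`.
-/

set_option autoImplicit false
set_option linter.unusedSectionVars false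
set_option linter.unusedVariables false

namespace Cfsg.Agent.Omega.All.NOne.OfGIn

open Subgroup Cfsg Cfsg.Agent.ZN Cfsg.Agent.Omega.MinPar Cfsg.Agent.Omega.NOne.SU
open Cfsg.Agent.MinSimple.VModule (le_o2 o2_isPGroup o2_le)
open Cfsg.Agent.Omega.NO1.Beta Cfsg.Agent.Omega.NO1.Beta.Inst

universe u

section form

variable {k F : Type*} [Field k] [Field F] [Algebra k F] (T : Quad k F)

/-- the norm form -/
theorem form_of (h2 : (2 : k) = 0) : Form k F T.nm (fun b c => T.tr (T.sg c * b)) where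
  F2 := fun a => T.add_selfk (h2 := h2) a
  four := T.four
  B_self := fun b => by
    rw [mul_comm, ← T.nm_eq]
    exact T.tr_alg h2 _
  B_add := fun b b' c => by
    change T.tr (T.sg c * (b + b')) = T.tr (T.sg c * b) + T.tr (T.sg c * b')
    rw [mul_add, map_add]
  B_symm := fun b c => by
    rw [← T.tr_sg' (T.sg c * b), map_mul, T.sg_sg, mul_comm]
  B_smul := fun s b c => by
    change T.tr (T.sg c * (s • b)) = s * T.tr (T.sg c * b)
    rw [mul_smul_comm, map_smul, smul_eq_mul]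
  B_span := fun b c hb h => by
    obtain ⟨t, ht⟩ := T.tr_eq_zero h2 h
    refine ⟨t * (T.nm b)⁻¹, ?_⟩
    have h3 : algebraMap k F t = c * T.sg b := by
      rw [← T.sg_alg, ht, map_mul, T.sg_sg]
    have h4 : algebraMap k F (T.nm b) ≠ 0 := by
      rw [T.nm_eq]
      exact mul_ne_zero hb (T.sg_ne' hb)
    rw [Algebra.smul_def, map_mul, map_inv₀, h3, T.nm_eq]
    have h5 := T.sg_ne' hb
    field_simp
  B_surj := fun b hb f => by
    obtain ⟨x, hx⟩ := T.exists_tr_ne h2
    refine ⟨T.sg (x * algebraMap k F (f * (T.tr x)⁻¹) * b⁻¹), ?_⟩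
    rw [T.sg_sg, inv_mul_cancel_right₀ hb, T.tr_mul_alg]
    field_simp
  N_add := fun b c => by
    apply T.alg_inj'
    rw [map_add, map_add, T.nm_eq, T.nm_eq, T.nm_eq, T.tr_eq, map_add, map_mul, T.sg_sg]
    ring
  N_smul := fun s b => by
    rw [Algebra.smul_def, T.nm_mul]
    congr 1
    apply T.alg_inj'
    rw [T.nm_eq, T.sg_alg, ← map_mul, pow_two]
  N_surj := fun f => by
    have := T.fink
    have hc : CharP k 2 := CharTwo.of_one_ne_zero_of_two_eq_zero one_ne_zero h2
    have hinj : Function.Injective (fun y : k => y * y) := by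
      intro a b hab
      have hab' : a * a = b * b := hab
      have h3 : (a - b) * (a - b) = 0 := by linear_combination hab' + b * (b - a) * h2
      exact sub_eq_zero.mp (mul_self_eq_zero.mp h3)
    obtain ⟨y, hy⟩ := Finite.surjective_of_injective hinj f
    refine ⟨algebraMap k F y, ?_⟩
    apply T.alg_inj'
    rw [T.nm_eq, T.sg_alg, ← map_mul]
    exact congrArg _ hy

end form

section gin

variable {G : Type*} [Group G] {k F : Type*} [Field k] [Field F] [Algebra k F] {T : Quad k F}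

/-- **`GIn` gives `Two`** -/
theorem two_of {S : Sylow 2 G} {V R Q R' Q' : Subgroup G} {v : k → F → k → G} {p p' : G → F}
    (h : GIn T S V R Q Q' v p p') (hQ : Q = o2 (normalizer (R : Set G)))
    (hQ' : Q' = o2 (normalizer (R' : Set G))) (hR' : ∀ x, x ∈ R' ↔ ∃ d, v 0 0 d = x)
    (hp' : ∀ c, ∃ y ∈ Q', p' y = c)
    (semi : ∀ w ∈ Q, w ∉ R → ∀ r ∈ R, ∃ n ∈ Q, n * w * n⁻¹ * w⁻¹ = r)
    (Q_gen : ∀ Y : Subgroup G, (∀ c ∈ normalizer (R : Set G), ∀ a b, c * v a b 0 * c⁻¹ ∈ Y) → Q ≤ Y)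
    (V_S : V ≤ (S : Subgroup G)) (Z_R : zc (S : Subgroup G) ≤ R) :
    Two (S : Subgroup G) V R Q R' Q' v T.nm (fun b c => T.tr (T.sg c * b)) := by
  have h2 : (2 : k) = 0 := h.sp.two
  have hf := form_of T h2
  have hact : ∀ y ∈ Q, ∀ a b d, y * v a b d * y⁻¹ = v (a + T.tr (T.sg (p y) * b) + T.nm (p y) * d) (b + d • p y) d := by
    intro y hy a b d
    rw [h.act y hy, Algebra.smul_def, mul_comm (algebraMap k F d)]
  exact
  { form := hf
    e_add := h.v_add
    e_inj := h.v_inj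
    e_mem := h.v_mem
    e_surj := h.v_surj
    R_iff := fun r => ⟨h.sp.a_surj r, by rintro ⟨a, rfl⟩; exact h.sp.a_mem a⟩
    E_le := h.E_le
    V_Q := h.V_Q
    act := fun y hy => ⟨p y, hact y hy⟩
    act_surj := fun c => by
      obtain ⟨y, hy, rfl⟩ := h.p_surj c
      exact ⟨y, hy, hact y hy⟩
    R'_iff := hR'
    opp := fun b _ => by
      obtain ⟨n, hn, hb⟩ := hp' (T.sg b)
      refine ⟨n, hn, fun a y d => ?_⟩
      have h3 : T.nm (T.sg b) = T.nm b := by
        apply T.alg_inj'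
        rw [T.nm_eq, T.nm_eq, T.sg_sg, mul_comm]
      rw [h.act' n hn, hb, T.sg_sg, h3, Algebra.smul_def, mul_comm b]
    Q_eq := hQ
    Q'_eq := hQ'
    Q_cen := fun y hy => by
      rw [mem_centralizer_iff]
      exact fun r hr => h.sp.cen r hr y hy
    QQ := h.sp.comm
    semi := semi
    char2 := h.char2
    meet := fun x hx => by
      obtain ⟨b, rfl⟩ := h.meet x hx.1 hx.2
      exact h.v_mem _ _ _
    S_two := S.isPGroup'
    S_V := h.S_V
    S_R := h.S_R
    sep := fun A hA => by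
      refine ⟨1, one_mem _, fun b => ⟨0, b, 0, fun c hc => ?_, fun c hc => ?_, ?_⟩⟩
      · have hc0 : c = 0 := by
          by_contra h0
          exact T.nm_ne h0 (hA c hc)
        subst hc0
        exact hf.B_zero b
      · exact hf.zero_B c
      · have h0 : v 0 0 0 = 1 := by
          have := h.v_add 0 0 0 0 0 0
          simp only [add_zero] at this
          exact left_eq_mul.mp this
        rw [h0]; group
    Q_gen := Q_gen
    V_S := V_S
    Z_R := Z_R
    S_U := h.S_U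
    S_2 := h.S_2
    ns := fun b hb => Or.inl (T.nm_ne hb) }

end gin

section hyp

variable {G : Type u} [Group G] [Finite G] {K : Type*} [Field K] [Finite K] [CharP K 2] {σ : K ≃+* K}
  {M V : Subgroup G} {d : Co K σ M V}

/-- **`Hyp d o2` gives `Two`** -/
theorem two_hyp (H : Hyp d o2) (h16 : 16 ≤ Nat.card K) (S : Sylow 2 G)
    (meet : ∀ N : Subgroup G, IsPGroup 2 N → N ≤ M → (∀ m ∈ M, ∀ y ∈ N, m * y * m⁻¹ ∈ N) → N ⊓ V = ⊥ → N = ⊥)
    (hSM : (S : Subgroup G) ≤ M) (hSR : (S : Subgroup G) ≤ normalizer (d.R0 : Set G))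
    (Z_R : zc (S : Subgroup G) ≤ d.R0) :
    Two (S : Subgroup G) V d.R0 (o2 (normalizer (d.R0 : Set G))) d.Roo (o2 (normalizer (d.Roo : Set G)))
      (GInst.vv d) (GInst.quad d.inv d.nt h16).nm
      (fun b c => (GInst.quad d.inv d.nt h16).tr ((GInst.quad d.inv d.nt h16).sg c * b)) := by
  obtain ⟨hM, hg, -⟩ := GHyp.main' H h16 meet S hSM hSR
  have B := H.beta meet
  have hres := B.result (GHyp.i0 d)
  apply two_of hg rfl rfl
  · intro x
    rw [GInst.mem_Roo_vv]
    exact ⟨fun ⟨c, hc⟩ => ⟨c, hc.symm⟩, fun ⟨c, hc⟩ => ⟨c, hc.symm⟩⟩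
  · intro c
    obtain ⟨y, hy, hya⟩ := (GHyp.act_l H).2 c
    exact ⟨y, hy, GInst.pl_eq d hya⟩
  · intro w hw hwR r hr
    obtain ⟨n, hn, h1⟩ := hres.2.2.2.2 w⁻¹ (inv_mem hw) (fun h => hwR (by
      have h3 := inv_mem h
      rw [inv_inv] at h3
      exact h3)) r hr
    refine ⟨n⁻¹, inv_mem hn, ?_⟩
    rw [← h1]; group
  · intro Y hY
    have h1 : o2 (normalizer (d.R0 : Set G)) = Qs V (fun i : Pt d => i.1) (fun i => o2 (normalizer (i.1 : Set G))) (GHyp.i0 d) := hres.1
    rw [h1]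
    intro x hx
    refine Qs_induction (p := fun x => x ∈ Y) (one_mem _) (fun a b _ _ ha hb => mul_mem ha hb)
      (fun a _ ha => inv_mem ha) ?_ hx
    intro c hc e he
    have he' : e ∈ V ⊓ Hyp.Q d o2 := he
    rw [H.V_inf_Q] at he'
    have h2 : e = GInst.vv d ⟨d.X e, d.sX he'.1⟩ (d.Y e) 0 :=
      GInst.eq_vv d he'.1 rfl rfl (by rw [he'.2]; rfl)
    rw [h2]
    exact hY c hc _ _
  · apply le_of_le_normalizer S
    · intro x
      refine ⟨1, ?_⟩
      apply Subtype.ext
      have := d.sq x.2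
      simpa [pow_two] using this
    · exact hSM.trans d.nor
  · exact Z_R

end hyp

end Cfsg.Agent.Omega.All.NOne.OfGIn

end

section


/-!
# THEOREM ALL-N1 (bb #15220), consequence for the frame

* `sup_eq_top` : in case `Full S`, `G = ⟨N_G(R), N_G(V)⟩`.
-/

set_option autoImplicit false

namespace Cfsg.Agent.Omega.All.NOne

open Subgroup Cfsg Cfsg.Agent.ZN Cfsg.Agent.Omega.MinPar Cfsg.Agent.Omega.Frame
open Cfsg.Agent.MinSimple.VModule (normalizer_le_normalizer_zc)
open Cfsg.Agent.Omega.FrameNOFF (CZ)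

universe u

variable {G : Type u} [Group G] [Finite G]

/-- **THEOREM ALL-N1**: `G = ⟨N_G(R), N_G(V)⟩`. -/
theorem sup_eq_top {F T : Type*} [Field F] [AddCommGroup T] [Module F T]
    {V R Q X D : Subgroup G} {e : F → T → F → G} {N : T → F} {B : T → T → F}
    (S : Sylow 2 G) (h : Core (S : Subgroup G) V R Q X e N B) (hG : IsCharacteristicTwoType G)
    (hZ : zc (S : Subgroup G) ≠ ⊥) (E : Ext (S : Subgroup G) V R Q D e)
    (hty : ∀ P : Subgroup G, IsParS (S : Subgroup G) P →
      ¬ zl (S : Subgroup G) P ≤ o2 (CZ (S : Subgroup G)) →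
      ∃ (F' T' : Type) (_ : Field F') (_ : AddCommGroup T') (_ : Module F' T') (R' Q' X' : Subgroup G)
        (e' : F' → T' → F' → G) (N' : T' → F') (B' : T' → T' → F'),
        Core (S : Subgroup G) (zl (S : Subgroup G) P) R' Q' X' e' N' B')
    (hF : Full (S : Subgroup G)) : normalizer (R : Set G) ⊔ normalizer (V : Set G) = ⊤ := by
  apply eq_top_of_par S hF
  · exact ((normalizer_le_normalizer_zc _).trans (h.normalizer_zc_le S hG hZ)).trans le_sup_left
  · intro P hP
    rcases h.par_le S hG hZ E hty hP with h | h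
    · exact h.trans le_sup_left
    · exact h.trans le_sup_right

end Cfsg.Agent.Omega.All.NOne

end
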