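import Cfsg.Agent.Mrg.Omega.All.NOne.TwoA


/-!
# THEOREM ALL-N1: the two-point data, part B

`D = C(V) ∩ Q'`, `D₀ = C(V) ∩ Q`.
* `exists_t'` : a torus element of `⟨Q, Q'⟩`, trivial on `E/R`, fixed-point-free on `D₀/E`;
* `norm` : an element `c ∈ C(V)` with `[c, D₀] ≤ V` lies in `V D D₀`.
-/

set_option autoImplicit false
set_option linter.unusedSectionVars false
set_option linter.unusedVariables false

namespace Cfsg.Agent.Omega.All.NOne

open Subgroup Cfsg Cfsg.Agent.ZN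
open Cfsg.Agent.MinSimple.VModule (le_normalizer_o2 o2_isPGroup)

universe u

variable {G : Type u} [Group G]

/-- equality modulo `V` -/
def EqV (V : Subgroup G) (x y : G) : Prop := ∃ r ∈ V, x = y * r

namespace EqV

variable {V : Subgroup G}

theorem refl (x : G) : EqV V x x := ⟨1, one_mem _, (mul_one _).symm⟩

theorem symm {x y : G} (h : EqV V x y) : EqV V y x := by
  obtain ⟨r, hr, rfl⟩ := h
  exact ⟨r⁻¹, inv_mem hr, by group⟩

theorem trans {x y z : G} (h : EqV V x y) (h' : EqV V y z) : EqV V x z := by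
  obtain ⟨r, hr, rfl⟩ := h
  obtain ⟨s, hs, rfl⟩ := h'
  exact ⟨s * r, mul_mem hs hr, by group⟩

theorem mul {x y x' y' : G} (h : EqV V x y) (h' : EqV V x' y') (hy' : y' ∈ centralizer (V : Set G)) :
    EqV V (x * x') (y * y') := by
  obtain ⟨r, hr, rfl⟩ := h
  obtain ⟨s, hs, rfl⟩ := h'
  refine ⟨r * s, mul_mem hr hs, ?_⟩
  have h1 := mem_centralizer_iff.1 hy' r hr
  calc y * r * (y' * s) = y * (r * y') * s := by group
    _ = y * (y' * r) * s := by rw [h1]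
    _ = y * y' * (r * s) := by group

theorem conj {x y n : G} (h : EqV V x y) (hn : n ∈ normalizer (V : Set G)) :
    EqV V (n * x * n⁻¹) (n * y * n⁻¹) := by
  obtain ⟨r, hr, rfl⟩ := h
  exact ⟨n * r * n⁻¹, (mem_normalizer_iff.1 hn r).1 hr, by group⟩

theorem of_mul {x y : G} (h : x * y⁻¹ ∈ V) (hy : y ∈ centralizer (V : Set G)) : EqV V x y := by
  refine ⟨x * y⁻¹, h, ?_⟩
  have h1 := mem_centralizer_iff.1 hy _ h
  rw [← h1]; group

theorem mul_inv_mem {x y : G} (h : EqV V x y) (hy : y ∈ centralizer (V : Set G)) : x * y⁻¹ ∈ V := by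
  obtain ⟨r, hr, rfl⟩ := h
  have h1 := mem_centralizer_iff.1 hy r hr
  rw [← h1, mul_inv_cancel_right]; exact hr

theorem mem_left {x y : G} (h : EqV V x y) (hy : y ∈ V) : x ∈ V := by
  obtain ⟨r, hr, rfl⟩ := h
  exact mul_mem hy hr

end EqV

/-- fixed-point-free modulo `V` implies surjectivity of the commutator -/
theorem fpf_surj [Finite G] {V A : Subgroup G} (hA : A ≤ centralizer (V : Set G)) {t : G}
    (ht : t ∈ normalizer (V : Set G)) (htA : ∀ a ∈ A, t * a * t⁻¹ ∈ A)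
    (hf : ∀ g ∈ A, t * g * t⁻¹ * g⁻¹ ∈ V → g ∈ V) {y : G} (hy : y ∈ A) :
    ∃ a ∈ A, ∃ v ∈ V, y = (t * a * t⁻¹ * a⁻¹) * v := by
  have key : ∀ a ∈ A, ∀ b ∈ A, (t * a * t⁻¹ * a⁻¹)⁻¹ * (t * b * t⁻¹ * b⁻¹) =
      a * (t * (a⁻¹ * b) * t⁻¹ * (a⁻¹ * b)⁻¹) * a⁻¹ := by
    intro a _ b _; group
  have hc : ∀ a ∈ A, ∀ x : G, a * x * a⁻¹ ∈ V ↔ x ∈ V := by
    intro a ha x
    constructor
    · intro hx
      have h1 := mem_centralizer_iff.1 (hA ha) _ hx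
      have h2 : x = a⁻¹ * (a * x * a⁻¹ * a) := by group
      rw [h2, h1, inv_mul_cancel_left]; exact hx
    · intro hx
      have h1 := mem_centralizer_iff.1 (hA ha) _ hx
      rw [← h1, mul_inv_cancel_right]; exact hx
  obtain ⟨a, ha, h1⟩ := surj_of_inj (A := A) (A' := A) (V := V) le_rfl (fun a => t * a * t⁻¹ * a⁻¹)
    (fun a ha => mul_mem (htA a ha) (inv_mem ha))
    (fun a ha b hb hab => by
      rw [key a ha b hb, hc a ha]
      exact mul_mem ((mem_normalizer_iff.1 ht _).1 hab) (inv_mem hab))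
    (fun a ha b hb hab => by
      rw [key a ha b hb, hc a ha] at hab
      exact hf _ (mul_mem (inv_mem ha) hb) hab) hy
  exact ⟨a, ha, _, h1, by group⟩

variable {F T : Type*} [Field F] [AddCommGroup T] [Module F T]

namespace Pair

variable {S V R Q R' Q' : Subgroup G} {e : F → T → F → G} {N : T → F} {B : T → T → F}
  (h : Pair S V R Q R' Q' e N B)
include h

omit h in
theorem VC {x v : G} (hx : x ∈ centralizer (V : Set G)) (hv : v ∈ V) : v * x = x * v :=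
  mem_centralizer_iff.1 hx _ hv

variable [Finite G]

/-- **Claim A** : `n(c)` acts on `D V / V` as `d ↦ [u_c, d]` -/
theorem n_al {c : T} (hc : N c ≠ 0) {u v d : G} (hu : u ∈ Q) (hv : v ∈ Q')
    (hn : ∀ a b d, (u * v * u) * e a b d * (u * v * u)⁻¹ = e (N c * d) (b + ((N c)⁻¹ * B b c) • c) ((N c)⁻¹ * a))
    (hd : d ∈ Q') (hdV : d ∈ centralizer (V : Set G)) :
    EqV V ((u * v * u) * d * (u * v * u)⁻¹) (u * d * u⁻¹ * d⁻¹) := by
  have huV := h.Q_V hu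
  have hvV := h.Q'_V hv
  set α := u * d * u⁻¹ * d⁻¹ with hα
  obtain ⟨hαQ, hαV⟩ := h.com_mem2 hdV hu
  set β := v * α * v⁻¹ * α⁻¹ with hβ
  obtain ⟨hβQ, hβV⟩ := h.com_mem2' hαV hv
  set γ := u * β * u⁻¹ * β⁻¹ with hγ
  obtain ⟨hγQ, hγV⟩ := h.com_mem2 hβV hu
  rw [← hα] at hαQ hαV hβQ hβV
  rw [← hβ] at hβQ hβV hγQ hγV
  rw [← hγ] at hγQ hγV
  -- first step
  have h1 : EqV V (v * (u * d * u⁻¹) * v⁻¹) (β * α * d) := by
    refine ⟨d⁻¹ * (v * d * v⁻¹ * d⁻¹) * d, ?_, ?_⟩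
    · have h2 := h.R'_V (h.QQ' hv hd)
      have h3 := VC hdV h2
      rw [mul_assoc, h3, inv_mul_cancel_left]; exact h2
    · rw [hβ, hα]; group
  have h2 : EqV V (u * (v * (u * d * u⁻¹) * v⁻¹) * u⁻¹) (γ * β * (α * (α * d))) := by
    refine (h1.conj huV).trans ?_
    have h3 : u * (β * α * d) * u⁻¹ = γ * β * ((u * α * u⁻¹) * (α * d)) := by
      rw [hγ, hα]; group
    rw [h3]
    refine EqV.mul (EqV.refl _) (EqV.mul ?_ (EqV.refl _) (mul_mem hαV hdV)) (mul_mem hαV (mul_mem hαV hdV))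
    apply EqV.of_mul _ hαV
    exact h.R_V (h.QQ u hu α hαQ)
  have h3 : (u * v * u) * d * (u * v * u)⁻¹ = u * (v * (u * d * u⁻¹) * v⁻¹) * u⁻¹ := by group
  rw [← h3] at h2
  -- `α d ≡ d α`
  have h4 : EqV V (α * d) (d * α) := by
    apply EqV.of_mul _ (mul_mem hdV hαV)
    have e1 : α * d * (d * α)⁻¹ = α * d * α⁻¹ * d⁻¹ := by group
    rw [e1]
    apply h.meet
    refine mem_inf.2 ⟨?_, ?_⟩
    · have := h.com_mem2 hdV hαQ
      exact this.1
    · exact (h.com_mem' hαV hd).1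
  have h5 : EqV V (α * (α * d)) (d * (α * α)) := by
    refine (EqV.mul (EqV.refl α) h4 (mul_mem hdV hαV)).trans ?_
    have e1 : α * (d * α) = α * d * α := by group
    have e2 : d * (α * α) = d * α * α := by group
    rw [e1, e2]
    exact EqV.mul h4 (EqV.refl _) hαV
  have h6 : EqV V ((u * v * u) * d * (u * v * u)⁻¹) (γ * (β * d) * (α * α)) := by
    refine h2.trans ?_
    have e1 : γ * (β * d) * (α * α) = γ * β * (d * (α * α)) := by group
    rw [e1]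
    exact EqV.mul (EqV.refl _) h5 (mul_mem hdV (mul_mem hαV hαV))
  -- `β d ∈ V`
  have hnQ : (u * v * u) * d * (u * v * u)⁻¹ ∈ Q := by
    rw [← (h.cj_n_Q hc hn).2]; exact conj_mem_cj hd
  have h7 : β * d ∈ V := by
    obtain ⟨r, hr, h8⟩ := h6
    have h9 : β * d = (γ⁻¹ * ((u * v * u) * d * (u * v * u)⁻¹) * (α * α)⁻¹) * r⁻¹ := by
      have h10 : r⁻¹ * (α * α)⁻¹ = (α * α)⁻¹ * r⁻¹ := VC (inv_mem (mul_mem hαV hαV)) (inv_mem hr)
      have h11 : β * d = γ⁻¹ * ((u * v * u) * d * (u * v * u)⁻¹) * (r⁻¹ * (α * α)⁻¹) := by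
        rw [h8]; group
      rw [h11, h10]; group
    exact h.meet' (mul_mem hβQ hd) (mul_mem (mul_mem (inv_mem hγQ) hnQ) (inv_mem (mul_mem hαQ hαQ)))
      (inv_mem hr) h9
  -- `γ ≡ α⁻¹`
  have h8 : EqV V γ α⁻¹ := by
    obtain ⟨r, hr, h10⟩ := h4
    have hv1 : u * (β * d) * u⁻¹ ∈ V := (mem_normalizer_iff.1 huV _).1 h7
    refine ⟨r⁻¹ * (β * d)⁻¹ * (u * (β * d) * u⁻¹), mul_mem (mul_mem (inv_mem hr) (inv_mem h7)) hv1, ?_⟩
    have h11 : (u * (β * d) * u⁻¹) * (α⁻¹ * r⁻¹ * (β * d)⁻¹) = (α⁻¹ * r⁻¹ * (β * d)⁻¹) * (u * (β * d) * u⁻¹) := by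
      apply VC _ hv1
      exact mul_mem (mul_mem (inv_mem hαV) (inv_mem (h.V_cen hr))) (inv_mem (h.V_cen h7))
    have h12 : γ = (u * (β * d) * u⁻¹) * ((α * d)⁻¹ * d) * (β * d)⁻¹ := by
      rw [hγ, hα]; group
    have h13 : (α * d)⁻¹ * d = α⁻¹ * r⁻¹ := by
      have h14 : (α * d)⁻¹ * d = r⁻¹ * α⁻¹ := by rw [h10]; group
      rw [h14, VC (inv_mem hαV) (inv_mem hr)]
    rw [h12, h13]
    calc (u * (β * d) * u⁻¹) * (α⁻¹ * r⁻¹) * (β * d)⁻¹ = (u * (β * d) * u⁻¹) * (α⁻¹ * r⁻¹ * (β * d)⁻¹) := by group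
      _ = (α⁻¹ * r⁻¹ * (β * d)⁻¹) * (u * (β * d) * u⁻¹) := h11
      _ = α⁻¹ * (r⁻¹ * (β * d)⁻¹ * (u * (β * d) * u⁻¹)) := by group
  have h9 : EqV V (γ * (β * d) * (α * α)) α := by
    have h10 : EqV V (γ * (β * d)) α⁻¹ := by
      obtain ⟨r, hr, h11⟩ := h8
      exact ⟨r * (β * d), mul_mem hr h7, by rw [h11]; group⟩
    have h11 := EqV.mul h10 (EqV.refl (α * α)) (mul_mem hαV hαV)
    rwa [inv_mul_cancel_left] at h11
  exact h6.trans h9

/-- the torus element, with its action on `D₀/E` -/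
theorem exists_t' {l : F} (hl : l ≠ 0) (hl1 : l ≠ 1) : ∃ t ∈ Q ⊔ Q',
    (∀ a b d, t * e a b d * t⁻¹ = e (l ^ 2 * a) b ((l ^ 2)⁻¹ * d)) ∧
    ∀ w ∈ Q, w ∈ centralizer (V : Set G) → t * w * t⁻¹ * w⁻¹ ∈ V → w ∈ V := by
  have hf := h.form
  obtain ⟨c, hc, -⟩ := hf.exists_ne
  have hc' : N c ≠ 0 := by rw [hc]; exact one_ne_zero
  have hlc : N (l • c) = l ^ 2 := by rw [hf.N_smul, hc, mul_one]
  have hlc' : N (l • c) ≠ 0 := by rw [hlc]; exact pow_ne_zero 2 hl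
  obtain ⟨u, hu, v, hv, hua, -, hn⟩ := h.exists_n hc'
  obtain ⟨u', hu', v', hv', hua', -, hn'⟩ := h.exists_n hlc'
  have hnV := h.X_V (h.n_mem hu hv)
  have hnV' := h.X_V (h.n_mem hu' hv')
  have hni : ∀ a b d, (u * v * u)⁻¹ * e a b d * (u * v * u) = e (N c * d) (b + ((N c)⁻¹ * B b c) • c) ((N c)⁻¹ * a) := by
    intro a b d
    have h1 := hn (N c * d) (b + ((N c)⁻¹ * B b c) • c) ((N c)⁻¹ * a)
    have h2 : b + ((N c)⁻¹ * B b c) • c + ((N c)⁻¹ * B (b + ((N c)⁻¹ * B b c) • c) c) • c = b := by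
      rw [hf.B_add, hf.B_smul, hf.B_self, mul_zero, add_zero, add_assoc, hf.T2, add_zero]
    have h3 : N c * ((N c)⁻¹ * a) = a := by field_simp
    have h4 : (N c)⁻¹ * (N c * d) = d := by field_simp
    rw [h2, h3, h4] at h1
    rw [← h1]; group
  refine ⟨(u' * v' * u') * (u * v * u)⁻¹, mul_mem (n_mem h hu' hv') (inv_mem (n_mem h hu hv)), ?_, ?_⟩
  · intro a b d
    have e1 : (u' * v' * u') * (u * v * u)⁻¹ * e a b d * ((u' * v' * u') * (u * v * u)⁻¹)⁻¹ =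
        (u' * v' * u') * ((u * v * u)⁻¹ * e a b d * (u * v * u)) * (u' * v' * u')⁻¹ := by group
    rw [e1, hni, hn', hc, hlc, inv_one, one_mul, one_mul, one_mul]
    congr 1
    rw [hf.B_add, hf.B_smul, hf.B_smul', hf.B_smul', hf.B_self, mul_zero, mul_zero, add_zero, smul_smul]
    have h6 : (l ^ 2)⁻¹ * (l * B b c) * l = B b c := by field_simp
    rw [h6, add_assoc, hf.T2, add_zero]
  · intro w hw hwV ht
    set d := (u * v * u)⁻¹ * w * (u * v * u) with hd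
    have hdV : d ∈ centralizer (V : Set G) := by
      have := h.CV (inv_mem hnV) hwV
      rwa [inv_inv] at this
    have hdQ : d ∈ Q' := by
      rw [hd, ← mem_cj, (h.cj_n_Q hc' hn).2]; exact hw
    have h1 := h.n_al hc' hu hv hn hdQ hdV
    have h2 := h.n_al hlc' hu' hv' hn' hdQ hdV
    obtain ⟨hαQ, hαV⟩ := h.com_mem2 hdV hu
    obtain ⟨hαQ', hαV'⟩ := h.com_mem2 hdV hu'
    have e1 : (u * v * u) * d * (u * v * u)⁻¹ = w := by rw [hd]; group
    have e2 : (u' * v' * u') * d * (u' * v' * u')⁻¹ =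
      (u' * v' * u') * (u * v * u)⁻¹ * w * ((u' * v' * u') * (u * v * u)⁻¹)⁻¹ := by rw [hd]; group
    rw [e1] at h1
    rw [e2] at h2
    -- `α' ≡ α`
    have h3 : EqV V ((u' * v' * u') * (u * v * u)⁻¹ * w * ((u' * v' * u') * (u * v * u)⁻¹)⁻¹) w :=
      EqV.of_mul ht hwV
    have h4 : EqV V (u' * d * u'⁻¹ * d⁻¹) (u * d * u⁻¹ * d⁻¹) := (h2.symm.trans h3).trans h1
    have hz : u' * u⁻¹ ∈ Q := mul_mem hu' (inv_mem hu)
    have h5 : (u' * u⁻¹) * d * (u' * u⁻¹)⁻¹ * d⁻¹ ∈ V := by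
      have e3 : (u' * u⁻¹) * d * (u' * u⁻¹)⁻¹ * d⁻¹ =
        (u' * u⁻¹) * (u * d * u⁻¹ * d⁻¹)⁻¹ * (u' * u⁻¹)⁻¹ * (u' * d * u'⁻¹ * d⁻¹) := by group
      have h6 : EqV V ((u' * u⁻¹) * (u * d * u⁻¹ * d⁻¹)⁻¹ * (u' * u⁻¹)⁻¹) (u * d * u⁻¹ * d⁻¹)⁻¹ :=
        EqV.of_mul (h.R_V (h.QQ _ hz _ (inv_mem hαQ))) (inv_mem hαV)
      have h7 := EqV.mul h6 h4 hαV
      rw [inv_mul_cancel] at h7
      rw [e3]
      exact h7.mem_left (one_mem _)
    have hua'' : IsU e N B (u' * u⁻¹) (l • c + c) := h.isU_mul hua' (h.isU_inv hua)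
    have hN : N (l • c + c) ≠ 0 := by
      have e4 : l • c + c = (l + 1) • c := by rw [add_smul, one_smul]
      rw [e4, hf.N_smul, hc, mul_one]
      apply pow_ne_zero
      intro h0
      apply hl1
      have := eq_neg_of_add_eq_zero_left h0
      rwa [hf.neg_F] at this
    have h6 := h.al_inj hN hz hua'' hdQ h5
    have h7 := (mem_normalizer_iff.1 hnV _).1 h6
    rwa [e1] at h7

/-- the kernel of `C(R)` on `Q/R` -/
theorem ker {g : G} (hg : g ∈ centralizer (R : Set G)) (hgQ : ∀ x ∈ Q, g * x * g⁻¹ * x⁻¹ ∈ R) : g ∈ Q := by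
  have hnQ : ∀ g ∈ centralizer (R : Set G), ∀ x ∈ Q, g * x * g⁻¹ ∈ Q := fun g hg x hx =>
    (mem_normalizer_iff.1 (h.nor_Q (centralizer_le_normalizer _ hg)) x).1 hx
  have hnQ' : ∀ g ∈ centralizer (R : Set G), ∀ x ∈ Q, g⁻¹ * x * g ∈ Q := fun g hg x hx => by
    have := hnQ g⁻¹ (inv_mem hg) x hx
    rwa [inv_inv] at this
  have hcR : ∀ g ∈ centralizer (R : Set G), ∀ r ∈ R, g * r * g⁻¹ = r := fun g hg r hr => by
    have := mem_centralizer_iff.1 hg r hr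
    rw [← this, mul_inv_cancel_right]
  let K : Subgroup G :=
    { carrier := {g | g ∈ centralizer (R : Set G) ∧ ∀ x ∈ Q, g * x * g⁻¹ * x⁻¹ ∈ R}
      mul_mem' := by
        rintro a b ⟨ha, ha'⟩ ⟨hb, hb'⟩
        refine ⟨mul_mem ha hb, fun x hx => ?_⟩
        have e1 : a * b * x * (a * b)⁻¹ * x⁻¹ = (a * (b * x * b⁻¹ * x⁻¹) * a⁻¹) * (a * x * a⁻¹ * x⁻¹) := by group
        rw [e1, hcR a ha _ (hb' x hx)]
        exact mul_mem (hb' x hx) (ha' x hx)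
      one_mem' := ⟨one_mem _, fun x _ => by
        have : (1 : G) * x * 1⁻¹ * x⁻¹ = 1 := by group
        rw [this]; exact one_mem _⟩
      inv_mem' := by
        rintro a ⟨ha, ha'⟩
        refine ⟨inv_mem ha, fun x hx => ?_⟩
        have h1 := ha' _ (hnQ' a ha x hx)
        have e1 : a⁻¹ * x * a⁻¹⁻¹ * x⁻¹ = (a * (a⁻¹ * x * a) * a⁻¹ * (a⁻¹ * x * a)⁻¹)⁻¹ := by group
        rw [e1]; exact inv_mem h1 }
  have hK : K ≤ Q := by
    conv_rhs => rw [h.Q_eq]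
    apply MinSimple.VModule.le_o2
    · intro g hg
      exact centralizer_le_normalizer _ hg.1
    · rintro ⟨g, hgC, hg'⟩
      have h1 : g * g ∈ Q := by
        apply h.char2
        rw [mem_centralizer_iff]
        intro x hx
        have h2 := hg' x hx
        set r := g * x * g⁻¹ * x⁻¹ with hr
        have h3 : g * x * g⁻¹ = r * x := by rw [hr]; group
        have h4 : (g * g) * x * (g * g)⁻¹ = x := by
          calc (g * g) * x * (g * g)⁻¹ = (g * r * g⁻¹) * (g * x * g⁻¹) := by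
                have : (g * g) * x * (g * g)⁻¹ = g * (g * x * g⁻¹) * g⁻¹ := by group
                rw [this]
                conv_lhs => rw [h3]
                group
            _ = r * (r * x) := by rw [hcR g hgC r h2, h3]
            _ = (r * r) * x := by group
            _ = x := by rw [h.V_sq (h.R_V h2), one_mul]
        calc x * (g * g) = ((g * g) * x * (g * g)⁻¹) * (g * g) := by rw [h4]
          _ = g * g * x := by group
      have h2 : IsPGroup 2 Q := by rw [h.Q_eq]; exact o2_isPGroup _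
      obtain ⟨n, hn⟩ := h2 ⟨_, h1⟩
      refine ⟨n + 1, Subtype.ext ?_⟩
      have h3 : (g * g) ^ 2 ^ n = 1 := by simpa using congrArg Subtype.val hn
      change g ^ 2 ^ (n + 1) = 1
      rw [pow_succ', pow_mul, pow_two]
      exact h3
    · intro m hm
      have key : ∀ m ∈ normalizer (R : Set G), ∀ g ∈ K, m * g * m⁻¹ ∈ K := by
        rintro m hm g ⟨hg, hg'⟩
        have hmR : ∀ r ∈ R, m * r * m⁻¹ ∈ R := fun r hr => (mem_normalizer_iff.1 hm r).1 hr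
        have hmR' : ∀ r ∈ R, m⁻¹ * r * m ∈ R := fun r hr => by
          have := (mem_normalizer_iff.1 (inv_mem hm) r).1 hr
          rwa [inv_inv] at this
        refine ⟨?_, fun x hx => ?_⟩
        · rw [mem_centralizer_iff]
          intro r hr
          have h1 := mem_centralizer_iff.1 hg _ (hmR' r hr)
          calc r * (m * g * m⁻¹) = m * ((m⁻¹ * r * m) * g) * m⁻¹ := by group
            _ = m * (g * (m⁻¹ * r * m)) * m⁻¹ := by rw [h1]
            _ = m * g * m⁻¹ * r := by group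
        · have hx' : m⁻¹ * x * m ∈ Q := by
            have := (mem_normalizer_iff.1 (inv_mem (h.nor_Q hm)) x).1 hx
            rwa [inv_inv] at this
          have h1 := hmR _ (hg' _ hx')
          have e1 : m * g * m⁻¹ * x * (m * g * m⁻¹)⁻¹ * x⁻¹ = m * (g * (m⁻¹ * x * m) * g⁻¹ * (m⁻¹ * x * m)⁻¹) * m⁻¹ := by
            group
          rw [e1]; exact h1
      exact mem_norm_of (key m hm) fun x hx => by
        have := key m⁻¹ (inv_mem hm) x hx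
        rwa [inv_inv] at this
  exact hK ⟨hg, hgQ⟩

/-- `c ∈ C(V)`, `[c, D₀] ≤ R` implies `[c, Q] ≤ E` -/
theorem com_V {c : G} (hc : c ∈ centralizer (V : Set G))
    (hcR : ∀ w ∈ Q, w ∈ centralizer (V : Set G) → c * w * c⁻¹ * w⁻¹ ∈ R) {x : G} (hx : x ∈ Q) :
    c * x * c⁻¹ * x⁻¹ ∈ V := by
  apply h.cc (h.com_mem hc hx).1
  intro y hy hyV
  have hyQ' : c⁻¹ * y * c ∈ Q := by
    have := h.CQ (inv_mem hc) hy
    rwa [inv_inv] at this
  have hyV' : c⁻¹ * y * c ∈ centralizer (V : Set G) := mul_mem (mul_mem (inv_mem hc) hyV) hc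
  have h1 := hcR _ hyQ' hyV'
  have h2 := h.QQ x hx y hy
  set κ := x * y * x⁻¹ * y⁻¹ with hκ
  set r := c * (c⁻¹ * y * c) * c⁻¹ * (c⁻¹ * y * c)⁻¹ with hr
  have h3 : y = r * (c⁻¹ * y * c) := by rw [hr]; group
  have hrx := h.cenR hx h1
  have hκc : κ * c = c * κ := mem_centralizer_iff.1 (centralizer_le h.R_V hc) _ h2
  have hcx : c * x * c⁻¹ ∈ Q := h.CQ hc hx
  -- `x y' = κ y' x`
  have h4 : (c⁻¹ * y * c) * x = κ⁻¹ * x * (c⁻¹ * y * c) := by
    have h5 : c⁻¹ * y * c = r⁻¹ * y := by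
      rw [eq_inv_mul_iff_mul_eq]; exact h3.symm
    have h6 : y * x = κ⁻¹ * x * y := by rw [hκ]; group
    have h7 : r⁻¹ * x = x * r⁻¹ := h.cenR hx (inv_mem h1)
    have h8 : r⁻¹ * κ⁻¹ = κ⁻¹ * r⁻¹ := h.V_comm (h.R_V (inv_mem h1)) (h.R_V (inv_mem h2))
    calc (c⁻¹ * y * c) * x = r⁻¹ * (y * x) := by rw [h5, mul_assoc]
      _ = (r⁻¹ * κ⁻¹) * x * y := by rw [h6]; group
      _ = κ⁻¹ * (r⁻¹ * x) * y := by rw [h8]; group
      _ = κ⁻¹ * x * (c⁻¹ * y * c) := by rw [h7, h5]; group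
  have h5 : κ⁻¹ * c = c * κ⁻¹ := by
    rw [inv_mul_eq_iff_eq_mul, ← mul_assoc, hκc, mul_assoc, mul_inv_cancel, mul_one]
  have h6 : κ⁻¹ * (c * x * c⁻¹) = (c * x * c⁻¹) * κ⁻¹ := h.cenR hcx (inv_mem h2)
  calc y * (c * x * c⁻¹ * x⁻¹) = c * ((c⁻¹ * y * c) * x) * c⁻¹ * x⁻¹ := by group
    _ = c * (κ⁻¹ * x * (c⁻¹ * y * c)) * c⁻¹ * x⁻¹ := by rw [h4]
    _ = (c * κ⁻¹) * x * c⁻¹ * y * x⁻¹ := by group
    _ = κ⁻¹ * (c * x * c⁻¹) * y * x⁻¹ := by rw [← h5]; group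
    _ = (c * x * c⁻¹) * (κ⁻¹ * y * x⁻¹) := by rw [h6]; group
    _ = (c * x * c⁻¹) * (x⁻¹ * y) := by
        have : κ⁻¹ * y * x⁻¹ = x⁻¹ * y := by
          have h7 : κ⁻¹ * x = x * κ⁻¹ := h.cenR hx (inv_mem h2)
          have h8 : κ⁻¹ * (x * y * x⁻¹) = y := by rw [hκ]; group
          calc κ⁻¹ * y * x⁻¹ = x⁻¹ * (x * κ⁻¹) * y * x⁻¹ := by group
            _ = x⁻¹ * (κ⁻¹ * (x * y * x⁻¹)) := by rw [← h7]; group
            _ = x⁻¹ * y := by rw [h8]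
        rw [this]
    _ = c * x * c⁻¹ * x⁻¹ * y := by group

/-- `λ_d = 0` implies `d ∈ V` -/
theorem mem_V_of_com {d : G} (hd : d ∈ Q') (hdV : d ∈ centralizer (V : Set G))
    (hR : ∀ w ∈ Q, w ∈ centralizer (V : Set G) → d * w * d⁻¹ * w⁻¹ ∈ R) : d ∈ V := by
  obtain ⟨c, hc, -⟩ := h.form.exists_ne
  have hc' : N c ≠ 0 := by rw [hc]; exact one_ne_zero
  obtain ⟨u, hu, huc⟩ := h.act_surj c
  apply h.al_inj hc' hu huc hd
  have h1 := h.com_V hdV hR hu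
  have h2 : u * d * u⁻¹ * d⁻¹ = (d * u * d⁻¹ * u⁻¹)⁻¹ := by group
  rw [h2]; exact inv_mem h1

end Pair

end Cfsg.Agent.Omega.All.NOne
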