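import Cfsg.Agent.Mrg.Omega.All.NOne.TwoB
import Mathlib
import Cfsg.Agent.Mrg.Omega.VP

section


/-!
# THEOREM ALL-N1: the two-point data, part C

* `Pair.norm` : an element `c ∈ C(V)` with `[c, C_Q(V)] ≤ V` lies in `V C_{Q'}(V) C_Q(V)`.
-/

set_option autoImplicit false
set_option linter.unusedSectionVars false
set_option linter.unusedVariables false

namespace Cfsg.Agent.Omega.All.NOne

open Subgroup Cfsg Cfsg.Agent.ZN
open Cfsg.Agent.MinSimple.VModule (le_normalizer_o2 o2_isPGroup)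

universe u

variable {G : Type u} [Group G] {F T : Type*} [Field F] [AddCommGroup T] [Module F T]

namespace Pair

variable {S V R Q R' Q' : Subgroup G} {e : F → T → F → G} {N : T → F} {B : T → T → F}
  (h : Pair S V R Q R' Q' e N B)
include h

theorem exists_tau : ∃ τ : G → T, ∀ a b, τ (e a b 0) = b := by
  classical
  refine ⟨fun x => if hx : ∃ ab : F × T, e ab.1 ab.2 0 = x then hx.choose.2 else 0, fun a b => ?_⟩
  have hex : ∃ ab : F × T, e ab.1 ab.2 0 = e a b 0 := ⟨(a, b), rfl⟩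
  change (if hx : ∃ ab : F × T, e ab.1 ab.2 0 = e a b 0 then hx.choose.2 else 0) = b
  rw [dif_pos hex]
  exact (h.e_eq hex.choose_spec).2.1

theorem V_Cn {x : G} (hx : x ∈ centralizer (V : Set G)) {v : G} (hv : v ∈ V) : x * v * x⁻¹ = v := by
  have := mem_centralizer_iff.1 hx v hv
  rw [← this, mul_inv_cancel_right]

variable [Finite G]

/-- `L = V D D₀` -/
def LL (h : Pair S V R Q R' Q' e N B) : Subgroup G where
  carrier := {x | ∃ v ∈ V, ∃ d ∈ Q', d ∈ centralizer (V : Set G) ∧ ∃ w ∈ Q, w ∈ centralizer (V : Set G) ∧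
    x = v * d * w}
  one_mem' := ⟨1, one_mem _, 1, one_mem _, one_mem _, 1, one_mem _, one_mem _, by group⟩
  mul_mem' := by
    rintro _ _ ⟨v, hv, d, hd, hdV, w, hw, hwV, rfl⟩ ⟨v', hv', d', hd', hdV', w', hw', hwV', rfl⟩
    refine ⟨v * v', mul_mem hv hv', d * d', mul_mem hd hd', mul_mem hdV hdV', (d'⁻¹ * w * d') * w', ?_, ?_, ?_⟩
    · have := h.CQ (inv_mem hdV') hw
      rw [inv_inv] at this
      exact mul_mem this hw'
    · exact mul_mem (mul_mem (mul_mem (inv_mem hdV') hwV) hdV') hwV'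
    · have h1 := VC (mul_mem hdV hwV) hv'
      calc v * d * w * (v' * d' * w') = v * ((d * w) * v') * d' * w' := by group
        _ = v * (v' * (d * w)) * d' * w' := by rw [h1]
        _ = v * v' * (d * d') * (d'⁻¹ * w * d' * w') := by group
  inv_mem' := by
    rintro _ ⟨v, hv, d, hd, hdV, w, hw, hwV, rfl⟩
    refine ⟨v⁻¹, inv_mem hv, d⁻¹, inv_mem hd, inv_mem hdV, d * w⁻¹ * d⁻¹, h.CQ hdV (inv_mem hw),
      mul_mem (mul_mem hdV (inv_mem hwV)) (inv_mem hdV), ?_⟩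
    have h1 := VC (mul_mem (inv_mem hwV) (inv_mem hdV)) (inv_mem hv)
    calc (v * d * w)⁻¹ = (w⁻¹ * d⁻¹) * v⁻¹ := by group
      _ = v⁻¹ * (w⁻¹ * d⁻¹) := by rw [h1]
      _ = v⁻¹ * d⁻¹ * (d * w⁻¹ * d⁻¹) := by group

theorem V_LL : V ≤ h.LL := fun v hv => ⟨v, hv, 1, one_mem _, one_mem _, 1, one_mem _, one_mem _, by group⟩

theorem D_LL {d : G} (hd : d ∈ Q') (hdV : d ∈ centralizer (V : Set G)) : d ∈ h.LL :=
  ⟨1, one_mem _, d, hd, hdV, 1, one_mem _, one_mem _, by group⟩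

theorem D₀_LL {w : G} (hw : w ∈ Q) (hwV : w ∈ centralizer (V : Set G)) : w ∈ h.LL :=
  ⟨1, one_mem _, 1, one_mem _, one_mem _, w, hw, hwV, by group⟩

/-- `[C(V), ⟨Q, Q'⟩] ≤ L` -/
theorem com_LL {x c : G} (hx : x ∈ Q ⊔ Q') (hc : c ∈ centralizer (V : Set G)) : x * c * x⁻¹ * c⁻¹ ∈ h.LL := by
  let Y : Subgroup G :=
    { carrier := {x | (∀ l ∈ h.LL, x * l * x⁻¹ ∈ h.LL) ∧ (∀ l ∈ h.LL, x⁻¹ * l * x ∈ h.LL) ∧
        ∀ c ∈ centralizer (V : Set G), x * c * x⁻¹ * c⁻¹ ∈ h.LL}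
      one_mem' := ⟨fun l hl => by simpa using hl, fun l hl => by simpa using hl, fun c hc => by
        have : (1 : G) * c * 1⁻¹ * c⁻¹ = 1 := by group
        rw [this]; exact one_mem _⟩
      mul_mem' := by
        rintro a b ⟨ha1, ha2, ha3⟩ ⟨hb1, hb2, hb3⟩
        refine ⟨fun l hl => ?_, fun l hl => ?_, fun c hc => ?_⟩
        · have e1 : a * b * l * (a * b)⁻¹ = a * (b * l * b⁻¹) * a⁻¹ := by group
          rw [e1]; exact ha1 _ (hb1 l hl)
        · have e1 : (a * b)⁻¹ * l * (a * b) = b⁻¹ * (a⁻¹ * l * a) * b := by group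
          rw [e1]; exact hb2 _ (ha2 l hl)
        · have e1 : a * b * c * (a * b)⁻¹ * c⁻¹ = (a * (b * c * b⁻¹ * c⁻¹) * a⁻¹) * (a * c * a⁻¹ * c⁻¹) := by group
          rw [e1]; exact mul_mem (ha1 _ (hb3 c hc)) (ha3 c hc)
      inv_mem' := by
        rintro a ⟨ha1, ha2, ha3⟩
        refine ⟨fun l hl => ?_, fun l hl => ?_, fun c hc => ?_⟩
        · rw [inv_inv]; exact ha2 l hl
        · rw [inv_inv]; exact ha1 l hl
        · have e1 : a⁻¹ * c * a⁻¹⁻¹ * c⁻¹ = a⁻¹ * (a * c * a⁻¹ * c⁻¹)⁻¹ * a := by group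
          rw [e1]; exact ha2 _ (inv_mem (ha3 c hc)) }
  have hQ : ∀ x ∈ Q, ∀ l ∈ h.LL, x * l * x⁻¹ ∈ h.LL := by
    rintro x hx _ ⟨v, hv, d, hd, hdV, w, hw, hwV, rfl⟩
    have e1 : x * (v * d * w) * x⁻¹ = (x * v * x⁻¹) * ((x * d * x⁻¹ * d⁻¹) * d) * (x * w * x⁻¹) := by group
    rw [e1]
    obtain ⟨h1, h2⟩ := h.com_mem2 hdV hx
    exact mul_mem (mul_mem (h.V_LL ((mem_normalizer_iff.1 (h.Q_V hx) _).1 hv))
      (mul_mem (h.D₀_LL h1 h2) (h.D_LL hd hdV)))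
      (h.D₀_LL (mul_mem (mul_mem hx hw) (inv_mem hx)) (h.CV (h.Q_V hx) hwV))
  have hQ' : ∀ x ∈ Q', ∀ l ∈ h.LL, x * l * x⁻¹ ∈ h.LL := by
    rintro x hx _ ⟨v, hv, d, hd, hdV, w, hw, hwV, rfl⟩
    have e1 : x * (v * d * w) * x⁻¹ = (x * v * x⁻¹) * (x * d * x⁻¹) * ((x * w * x⁻¹ * w⁻¹) * w) := by group
    rw [e1]
    obtain ⟨h1, h2⟩ := h.com_mem2' hwV hx
    exact mul_mem (mul_mem (h.V_LL ((mem_normalizer_iff.1 (h.Q'_V hx) _).1 hv))
      (h.D_LL (mul_mem (mul_mem hx hd) (inv_mem hx)) (h.CV (h.Q'_V hx) hdV)))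
      (mul_mem (h.D_LL h1 h2) (h.D₀_LL hw hwV))
  have hle : Q ⊔ Q' ≤ Y := by
    apply sup_le
    · intro x hx
      refine ⟨hQ x hx, fun l hl => ?_, fun c hc => ?_⟩
      · have := hQ x⁻¹ (inv_mem hx) l hl
        rwa [inv_inv] at this
      · obtain ⟨h1, h2⟩ := h.com_mem2 hc hx
        exact h.D₀_LL h1 h2
    · intro x hx
      refine ⟨hQ' x hx, fun l hl => ?_, fun c hc => ?_⟩
      · have := hQ' x⁻¹ (inv_mem hx) l hl
        rwa [inv_inv] at this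
      · obtain ⟨h1, h2⟩ := h.com_mem2' hc hx
        exact h.D_LL h1 h2
  exact (hle hx).2.2 c hc

/-- an element acting as `t(l)` normalises `R`, `R'` -/
theorem t_norm {l : F} (hl : l ≠ 0) {t : G}
    (hta : ∀ a b d, t * e a b d * t⁻¹ = e (l ^ 2 * a) b ((l ^ 2)⁻¹ * d)) :
    t ∈ normalizer (R : Set G) ∧ t ∈ normalizer (R' : Set G) := by
  have hl2 : l ^ 2 ≠ 0 := pow_ne_zero 2 hl
  have hinv : ∀ a b d, t⁻¹ * e a b d * t = e ((l ^ 2)⁻¹ * a) b (l ^ 2 * d) := by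
    intro a b d
    have h1 := hta ((l ^ 2)⁻¹ * a) b (l ^ 2 * d)
    have e1 : l ^ 2 * ((l ^ 2)⁻¹ * a) = a := by field_simp
    have e2 : (l ^ 2)⁻¹ * (l ^ 2 * d) = d := by field_simp
    rw [e1, e2] at h1
    rw [← h1]; group
  constructor
  · apply mem_norm_of
    · intro x hx
      obtain ⟨a, rfl⟩ := (h.R_iff x).1 hx
      rw [hta, mul_zero]; exact h.e_R _
    · intro x hx
      obtain ⟨a, rfl⟩ := (h.R_iff x).1 hx
      rw [hinv, mul_zero]; exact h.e_R _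
  · apply mem_norm_of
    · intro x hx
      obtain ⟨a, rfl⟩ := (h.R'_iff x).1 hx
      rw [hta, mul_zero]; exact (h.R'_iff _).2 ⟨_, rfl⟩
    · intro x hx
      obtain ⟨a, rfl⟩ := (h.R'_iff x).1 hx
      rw [hinv, mul_zero]; exact (h.R'_iff _).2 ⟨_, rfl⟩

theorem isU_t {l : F} (hl : l ≠ 0) {t x : G} {c : T}
    (hta : ∀ a b d, t * e a b d * t⁻¹ = e (l ^ 2 * a) b ((l ^ 2)⁻¹ * d)) (hx : IsU e N B x c) :
    IsU e N B (t * x * t⁻¹) (l ^ 2 • c) := by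
  have hf := h.form
  have hl2 : l ^ 2 ≠ 0 := pow_ne_zero 2 hl
  intro a b d
  have hinv : t⁻¹ * e a b d * t = e ((l ^ 2)⁻¹ * a) b (l ^ 2 * d) := by
    have h1 := hta ((l ^ 2)⁻¹ * a) b (l ^ 2 * d)
    have e1 : l ^ 2 * ((l ^ 2)⁻¹ * a) = a := by field_simp
    have e2 : (l ^ 2)⁻¹ * (l ^ 2 * d) = d := by field_simp
    rw [e1, e2] at h1
    rw [← h1]; group
  have e1 : t * x * t⁻¹ * e a b d * (t * x * t⁻¹)⁻¹ = t * (x * (t⁻¹ * e a b d * t) * x⁻¹) * t⁻¹ := by group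
  rw [e1, hinv, hx, hta]
  congr 1
  · rw [hf.B_smul', hf.N_smul]; field_simp
  · rw [smul_smul, mul_comm]
  · field_simp

section torus

variable {l : F} (hl : l ≠ 0) {t : G} (ht : t ∈ Q ⊔ Q')
  (hta : ∀ a b d, t * e a b d * t⁻¹ = e (l ^ 2 * a) b ((l ^ 2)⁻¹ * d))
  (htf : ∀ w ∈ Q, w ∈ centralizer (V : Set G) → t * w * t⁻¹ * w⁻¹ ∈ V → w ∈ V)
include hl ht hta htf

/-- `λ ∘ t = λ` implies `λ = 0` -/
theorem lam_zero {x : G} (hx : x ∈ centralizer (V : Set G))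
    (hxV : ∀ w ∈ Q, w ∈ centralizer (V : Set G) → x * w * x⁻¹ * w⁻¹ ∈ V)
    (hxt : ∀ w ∈ Q, w ∈ centralizer (V : Set G) →
      (x * (t * w * t⁻¹) * x⁻¹ * (t * w * t⁻¹)⁻¹) * (x * w * x⁻¹ * w⁻¹)⁻¹ ∈ R) :
    ∀ w ∈ Q, w ∈ centralizer (V : Set G) → x * w * x⁻¹ * w⁻¹ ∈ R := by
  intro y hy hyV
  obtain ⟨htR, htR'⟩ := h.t_norm hl hta
  obtain ⟨a, ⟨haV, haQ⟩, v, hv, hya⟩ := fpf_surj (A := centralizer (V : Set G) ⊓ Q) inf_le_left (h.X_V ht)
    (fun a ha => ⟨h.CV (h.X_V ht) ha.1, (mem_normalizer_iff.1 (h.nor_Q htR) a).1 ha.2⟩)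
    (fun g hg => htf g hg.2 hg.1) (y := y) ⟨hyV, hy⟩
  set p := t * a * t⁻¹ with hp
  have hpV : p ∈ centralizer (V : Set G) := h.CV (h.X_V ht) haV
  have hpQ : p ∈ Q := (mem_normalizer_iff.1 (h.nor_Q htR) a).1 haQ
  have h1 := hxt a haQ haV
  have h2 := hxV a haQ haV
  have h3 := hxV p hpQ hpV
  rw [← hp] at h1
  set κ := x * a * x⁻¹ * a⁻¹ with hκ
  set μ := x * p * x⁻¹ * p⁻¹ with hμ
  have h4 : x * y * x⁻¹ * y⁻¹ = μ * κ⁻¹ := by
    have h5 := h.V_Cn hx hv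
    have h6 := h.V_Cn (mul_mem hpV (inv_mem haV)) (inv_mem h2)
    calc x * y * x⁻¹ * y⁻¹ = (x * p * x⁻¹) * (x * a * x⁻¹)⁻¹ * (x * v * x⁻¹) * y⁻¹ := by rw [hya]; group
      _ = (x * p * x⁻¹) * (x * a * x⁻¹)⁻¹ * v * y⁻¹ := by rw [h5]
      _ = (μ * p) * (κ * a)⁻¹ * v * (p * a⁻¹ * v)⁻¹ := by rw [hya, hμ, hκ]; group
      _ = μ * ((p * a⁻¹) * κ⁻¹ * (p * a⁻¹)⁻¹) := by group
      _ = μ * κ⁻¹ := by rw [h6]
  rw [h4]; exact h1

/-- `t` is fixed-point-free on `D V / V` -/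
theorem fpfD {g : G} (hg : g ∈ Q') (hgV : g ∈ centralizer (V : Set G)) (h0 : t * g * t⁻¹ * g⁻¹ ∈ V) : g ∈ V := by
  obtain ⟨htR, htR'⟩ := h.t_norm hl hta
  have hxV : ∀ w ∈ Q, w ∈ centralizer (V : Set G) → g * w * g⁻¹ * w⁻¹ ∈ V := by
    intro w hw hwV
    apply h.meet
    exact mem_inf.2 ⟨(h.com_mem hgV hw).1, (h.com_mem2' hwV hg).1⟩
  apply h.mem_V_of_com hg hgV
  apply h.lam_zero hl ht hta htf hgV hxV
  intro w hw hwV
  set p := t * w * t⁻¹ with hp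
  have hpV : p ∈ centralizer (V : Set G) := h.CV (h.X_V ht) hwV
  obtain ⟨v, hv, h1⟩ := EqV.of_mul h0 hgV
  have h2 : g * p * g⁻¹ * p⁻¹ = t * (g * w * g⁻¹ * w⁻¹) * t⁻¹ := by
    have h3 := h.V_Cn hpV (v := v⁻¹) (inv_mem hv)
    have h4 : v * p * v⁻¹ = p := by
      have h5 := VC hpV hv
      rw [h5, mul_inv_cancel_right]
    calc g * p * g⁻¹ * p⁻¹ = g * (v * p * v⁻¹) * g⁻¹ * p⁻¹ := by rw [h4]
      _ = (g * v) * p * (g * v)⁻¹ * p⁻¹ := by group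
      _ = (t * g * t⁻¹) * p * (t * g * t⁻¹)⁻¹ * p⁻¹ := by rw [← h1]
      _ = t * (g * w * g⁻¹ * w⁻¹) * t⁻¹ := by rw [hp]; group
  rw [h2]
  obtain ⟨a, b, hab⟩ := h.mem_E (hxV w hw hwV) (h.com_mem hgV hw).1
  rw [← hab, hta, mul_zero, h.e_inv, ← h.e_add, h.form.T2, add_zero]
  exact h.e_R _

end torus

/-- **(N1L)** -/
theorem norm {c : G} (hc : c ∈ centralizer (V : Set G))
    (hcQ : ∀ w ∈ Q, w ∈ centralizer (V : Set G) → c * w * c⁻¹ * w⁻¹ ∈ V) :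
    ∃ v ∈ V, ∃ d ∈ Q', d ∈ centralizer (V : Set G) ∧ ∃ w ∈ Q, w ∈ centralizer (V : Set G) ∧ c = v * d * w := by
  have hf := h.form
  obtain ⟨l, hl, hl1⟩ := h.exists_two
  obtain ⟨t, ht, hta, htf⟩ := h.exists_t' hl hl1
  obtain ⟨htR, htR'⟩ := h.t_norm hl hta
  have htV := h.X_V ht
  have htQ : ∀ x ∈ Q, t * x * t⁻¹ ∈ Q := fun x hx => (mem_normalizer_iff.1 (h.nor_Q htR) x).1 hx
  have htQ' : ∀ x ∈ Q', t * x * t⁻¹ ∈ Q' := fun x hx => (mem_normalizer_iff.1 (h.nor_Q' htR') x).1 hx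
  obtain ⟨v, hv, d', hd', hdV', w', hw', hwV', htc⟩ := h.com_LL ht hc
  obtain ⟨a, ⟨haV, haQ⟩, v'', hv'', hda⟩ := fpf_surj (A := centralizer (V : Set G) ⊓ Q') inf_le_left htV
    (fun a ha => ⟨h.CV htV ha.1, htQ' a ha.2⟩) (fun g hg => h.fpfD hl ht hta htf hg.2 hg.1) (y := d') ⟨hdV', hd'⟩
  -- `c₁ = a⁻¹ c`
  set c₁ := a⁻¹ * c with hc₁
  have hc₁V : c₁ ∈ centralizer (V : Set G) := mul_mem (inv_mem haV) hc
  set w'' := a⁻¹ * w' * a with hw''
  have hw''Q : w'' ∈ Q := by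
    have := h.CQ (inv_mem haV) hw'
    rwa [inv_inv] at this
  have hw''V : w'' ∈ centralizer (V : Set G) := mul_mem (mul_mem (inv_mem haV) hwV') haV
  have hv₃ : v'' * v ∈ V := mul_mem hv'' hv
  have htc₁ : t * c₁ * t⁻¹ = w'' * c₁ * (v'' * v) := by
    have h1 : t * a * t⁻¹ = d' * v''⁻¹ * a := by rw [hda]; group
    have h2 : t * c * t⁻¹ = v * d' * w' * c := by rw [← htc]; group
    have h3 : t * c₁ * t⁻¹ = (t * a * t⁻¹)⁻¹ * (t * c * t⁻¹) := by rw [hc₁]; group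
    have h4 := VC (mul_mem (mul_mem hdV' hwV') hc) hv
    have h5 := VC (mul_mem (mul_mem (mul_mem (inv_mem hdV') (mul_mem (mul_mem hdV' hwV') hc)) (h.V_cen hv)) (one_mem _)) hv''
    rw [mul_one] at h5
    calc t * c₁ * t⁻¹ = a⁻¹ * (v'' * (d'⁻¹ * (v * (d' * w' * c)))) := by rw [h3, h1, h2]; group
      _ = a⁻¹ * (v'' * (d'⁻¹ * (d' * w' * c) * v)) := by rw [h4]; group
      _ = a⁻¹ * (d'⁻¹ * (d' * w' * c) * v * v'') := by rw [h5]
      _ = a⁻¹ * w' * c * (v * v'') := by group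
      _ = w'' * c₁ * (v'' * v) := by rw [h.V_comm hv hv'', hw'', hc₁]; group
  -- `[c₁, D₀] ≤ V`
  have hx1 : ∀ w ∈ Q, w ∈ centralizer (V : Set G) → c₁ * w * c₁⁻¹ * w⁻¹ ∈ V := by
    intro w hw hwV
    have h1 := hcQ w hw hwV
    have h2 : a⁻¹ * w * a * w⁻¹ ∈ V := by
      apply h.meet
      have h3 := (h.com_mem (inv_mem haV) hw).1
      have h4 := (h.com_mem2' hwV (inv_mem haQ)).1
      rw [inv_inv] at h3 h4
      exact mem_inf.2 ⟨h3, h4⟩
    have e1 : c₁ * w * c₁⁻¹ * w⁻¹ = a⁻¹ * (c * w * c⁻¹ * w⁻¹) * a⁻¹⁻¹ * (a⁻¹ * w * a * w⁻¹) := by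
      rw [hc₁]; group
    rw [e1, h.V_Cn (inv_mem haV) h1]
    exact mul_mem h1 h2
  -- `[c₁, D₀] ≤ R`
  have hlam := h.lam_zero hl ht hta htf hc₁V hx1 (by
    intro w hw hwV
    set p := t * w * t⁻¹ with hp
    have hpV : p ∈ centralizer (V : Set G) := h.CV htV hwV
    have hpQ : p ∈ Q := htQ w hw
    have h2 : t * (c₁ * w * c₁⁻¹ * w⁻¹) * t⁻¹ = (c₁ * p * c₁⁻¹ * p⁻¹) * (w'' * p * w''⁻¹ * p⁻¹) := by
      have h4 : (v'' * v) * p * (v'' * v)⁻¹ = p := by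
        rw [VC hpV hv₃, mul_inv_cancel_right]
      have h5 := h.V_Cn hw''V (hx1 p hpQ hpV)
      calc t * (c₁ * w * c₁⁻¹ * w⁻¹) * t⁻¹ = (t * c₁ * t⁻¹) * p * (t * c₁ * t⁻¹)⁻¹ * p⁻¹ := by rw [hp]; group
        _ = w'' * c₁ * ((v'' * v) * p * (v'' * v)⁻¹) * c₁⁻¹ * w''⁻¹ * p⁻¹ := by rw [htc₁]; group
        _ = (w'' * (c₁ * p * c₁⁻¹ * p⁻¹) * w''⁻¹) * (w'' * p * w''⁻¹ * p⁻¹) := by rw [h4]; group
        _ = _ := by rw [h5]
    have h3 : (c₁ * p * c₁⁻¹ * p⁻¹) * (c₁ * w * c₁⁻¹ * w⁻¹)⁻¹ =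
        (t * (c₁ * w * c₁⁻¹ * w⁻¹) * t⁻¹) * (c₁ * w * c₁⁻¹ * w⁻¹)⁻¹ * (w'' * p * w''⁻¹ * p⁻¹)⁻¹ := by
      rw [h2]
      have h6 := h.R_V (h.QQ w'' hw''Q p hpQ)
      have h7 := h.V_comm h6 (inv_mem (hx1 w hw hwV))
      rw [mul_assoc (c₁ * p * c₁⁻¹ * p⁻¹) (w'' * p * w''⁻¹ * p⁻¹), h7]
      group
    rw [h3]
    refine mul_mem ?_ (inv_mem (h.QQ w'' hw''Q p hpQ))
    obtain ⟨a, b, hab⟩ := h.mem_E (hx1 w hw hwV) (h.com_mem hc₁V hw).1
    rw [← hab, hta, mul_zero, h.e_inv, ← h.e_add, hf.T2, add_zero]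
    exact h.e_R _)
  -- `ν`
  obtain ⟨τ, hτ⟩ := h.exists_tau
  have hEx : ∀ x ∈ Q, ∃ a b, e a b 0 = c₁ * x * c₁⁻¹ * x⁻¹ := fun x hx =>
    h.mem_E (h.com_V hc₁V hlam hx) (h.com_mem hc₁V hx).1
  choose yy hyy hyc using h.act_surj
  set ν : T → T := fun c' => τ (c₁ * yy c' * c₁⁻¹ * (yy c')⁻¹) with hν
  have hν1 : ∀ x ∈ Q, ∀ c', IsU e N B x c' → ∃ a, c₁ * x * c₁⁻¹ * x⁻¹ = e a (ν c') 0 := by
    intro x hx c' hxc
    obtain ⟨a₁, b₁, h1⟩ := hEx _ (hyy c')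
    have hzQ : (yy c')⁻¹ * x ∈ Q := mul_mem (inv_mem (hyy c')) hx
    have hzV : (yy c')⁻¹ * x ∈ centralizer (V : Set G) := by
      apply h.cen_of_isU
      have := h.isU_mul (h.isU_inv (hyc c')) hxc
      rwa [hf.T2] at this
    have h2 := hlam _ hzQ hzV
    have h3 : c₁ * x * c₁⁻¹ * x⁻¹ = (c₁ * yy c' * c₁⁻¹ * (yy c')⁻¹) *
        (yy c' * (c₁ * ((yy c')⁻¹ * x) * c₁⁻¹ * ((yy c')⁻¹ * x)⁻¹) * (yy c')⁻¹) := by group
    have h4 := h.cenR (hyy c') h2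
    rw [← h4, mul_inv_cancel_right] at h3
    obtain ⟨a₂, h5⟩ := (h.R_iff _).1 h2
    refine ⟨a₁ + a₂, ?_⟩
    have h6 : ν c' = b₁ := by rw [hν]; change τ _ = _; rw [← h1, hτ]
    rw [h3, ← h1, ← h5, ← h.e_add, h6, add_zero, add_zero]
  have hν_add : ∀ c' c'', ν (c' + c'') = ν c' + ν c'' := by
    intro c' c''
    obtain ⟨a₁, h1⟩ := hν1 _ (mul_mem (hyy c') (hyy c'')) _ (h.isU_mul (hyc c') (hyc c''))
    obtain ⟨a₂, h2⟩ := hν1 _ (hyy c') _ (hyc c')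
    obtain ⟨a₃, h3⟩ := hν1 _ (hyy c'') _ (hyc c'')
    have h4 : c₁ * (yy c' * yy c'') * c₁⁻¹ * (yy c' * yy c'')⁻¹ = (c₁ * yy c' * c₁⁻¹ * (yy c')⁻¹) *
        (yy c' * (c₁ * yy c'' * c₁⁻¹ * (yy c'')⁻¹) * (yy c')⁻¹) := by group
    rw [h1, h2, h3, hyc, ← h.e_add] at h4
    simpa using (h.e_eq h4).2.1
  obtain ⟨a₃, b₃, d₃, hv₃e⟩ := h.e_surj _ hv₃
  have hν_rel : ∀ c', ν c' = d₃ • (l ^ 2 • c') + ν (l ^ 2 • c') := by
    intro c'
    set x := yy c' with hx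
    set y := t * x * t⁻¹ with hy
    have hxQ := hyy c'
    have hyQ : y ∈ Q := htQ _ hxQ
    have hyU : IsU e N B y (l ^ 2 • c') := h.isU_t hl hta (hyc c')
    obtain ⟨a₁, h1⟩ := hν1 x hxQ c' (hyc c')
    obtain ⟨a₂, h2⟩ := hν1 y hyQ _ hyU
    have hε : ∃ a₄, (v'' * v) * y * (v'' * v)⁻¹ * y⁻¹ = e a₄ (d₃ • (l ^ 2 • c')) 0 := by
      have h4 : (v'' * v) * y * (v'' * v)⁻¹ * y⁻¹ = (v'' * v) * (y * (v'' * v)⁻¹ * y⁻¹) := by group
      have k1 : b₃ + (b₃ + d₃ • (l ^ 2 • c')) = d₃ • (l ^ 2 • c') := by rw [← add_assoc, hf.T2, zero_add]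
      have k2 : d₃ + d₃ = 0 := hf.F2 _
      rw [h4, ← hv₃e, h.e_inv, hyU, ← h.e_add, k1, k2]
      exact ⟨_, rfl⟩
    obtain ⟨a₄, hε⟩ := hε
    have h3 : t * (c₁ * x * c₁⁻¹ * x⁻¹) * t⁻¹ = e a₄ (d₃ • (l ^ 2 • c')) 0 * (c₁ * y * c₁⁻¹ * y⁻¹) *
        (w'' * y * w''⁻¹ * y⁻¹) := by
      have h5 := h.V_Cn (mul_mem hw''V hc₁V) (h.e_mem a₄ (d₃ • (l ^ 2 • c')) 0)
      have h6 := h.V_Cn hw''V (h.com_V hc₁V hlam hyQ)
      calc t * (c₁ * x * c₁⁻¹ * x⁻¹) * t⁻¹ = (t * c₁ * t⁻¹) * y * (t * c₁ * t⁻¹)⁻¹ * y⁻¹ := by rw [hy]; group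
        _ = (w'' * c₁ * ((v'' * v) * y * (v'' * v)⁻¹ * y⁻¹) * (w'' * c₁)⁻¹) *
            ((w'' * (c₁ * y * c₁⁻¹ * y⁻¹) * w''⁻¹) * (w'' * y * w''⁻¹ * y⁻¹)) := by rw [htc₁]; group
        _ = _ := by rw [hε, h5, h6]; group
    obtain ⟨a₅, h7⟩ := (h.R_iff _).1 (h.QQ w'' hw''Q y hyQ)
    rw [h1, h2, ← h7, hta, ← h.e_add, ← h.e_add] at h3
    simpa using (h.e_eq h3).2.1
  have hs : 1 + l ^ 2 ≠ 0 := by
    intro h0
    apply hl1
    have h1 : (l + 1) * (l + 1) = 0 := by linear_combination h0 + hf.F2 l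
    have h2 := eq_neg_of_add_eq_zero_left (mul_self_eq_zero.1 h1)
    rwa [hf.neg_F] at h2
  set d₂ := d₃ * (l ^ 2 * (1 + l ^ 2)⁻¹) with hd₂
  have hν2 : ∀ c₀, ν c₀ = d₂ • c₀ := by
    intro c₀
    set c' := (1 + l ^ 2)⁻¹ • c₀ with hc'
    have h1 : c₀ = c' + l ^ 2 • c' := by
      have : c' + l ^ 2 • c' = (1 + l ^ 2) • c' := by rw [add_smul, one_smul]
      rw [this, hc', smul_smul, mul_inv_cancel₀ hs, one_smul]
    calc ν c₀ = ν c' + ν (l ^ 2 • c') := by rw [h1, hν_add]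
      _ = d₃ • (l ^ 2 • c') + (ν (l ^ 2 • c') + ν (l ^ 2 • c')) := by rw [hν_rel c']; abel
      _ = d₂ • c₀ := by
          rw [hf.T2, add_zero, hc', smul_smul, smul_smul, hd₂]
          congr 1; ring
  -- `c₂ = c₁ v₂`
  have hv₂ := h.e_mem 0 0 d₂
  have hc₂ : c₁ * e 0 0 d₂ ∈ centralizer (V : Set G) := mul_mem hc₁V (h.V_cen hv₂)
  have hc₂Q : c₁ * e 0 0 d₂ ∈ Q := by
    apply h.ker (centralizer_le h.R_V hc₂)
    intro x hx
    obtain ⟨c', hxc⟩ := h.act x hx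
    obtain ⟨a₁, h1⟩ := hν1 x hx c' hxc
    have hε : ∃ a₄, e 0 0 d₂ * x * (e 0 0 d₂)⁻¹ * x⁻¹ = e a₄ (d₂ • c') 0 := by
      have h4 : e 0 0 d₂ * x * (e 0 0 d₂)⁻¹ * x⁻¹ = e 0 0 d₂ * (x * (e 0 0 d₂)⁻¹ * x⁻¹) := by group
      have k1 : (0 : T) + (0 + d₂ • c') = d₂ • c' := by rw [zero_add, zero_add]
      have k2 : d₂ + d₂ = 0 := hf.F2 _
      rw [h4, h.e_inv, hxc, ← h.e_add, k1, k2]
      exact ⟨_, rfl⟩
    obtain ⟨a₄, hε⟩ := hε
    have h5 := h.V_Cn hc₁V (h.e_mem a₄ (d₂ • c') 0)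
    have h2 : c₁ * e 0 0 d₂ * x * (c₁ * e 0 0 d₂)⁻¹ * x⁻¹ = e a₄ (d₂ • c') 0 * e a₁ (d₂ • c') 0 := by
      calc c₁ * e 0 0 d₂ * x * (c₁ * e 0 0 d₂)⁻¹ * x⁻¹ =
          (c₁ * (e 0 0 d₂ * x * (e 0 0 d₂)⁻¹ * x⁻¹) * c₁⁻¹) * (c₁ * x * c₁⁻¹ * x⁻¹) := by group
        _ = _ := by rw [hε, h5, h1, hν2]
    rw [h2, ← h.e_add, hf.T2, add_zero]
    exact h.e_R _
  -- conclusion
  refine ⟨(e 0 0 d₂)⁻¹, inv_mem hv₂, a, haQ, haV, c₁ * e 0 0 d₂, hc₂Q, hc₂, ?_⟩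
  have h1 := h.V_Cn hc hv₂
  calc c = (e 0 0 d₂)⁻¹ * (e 0 0 d₂) * c := by group
    _ = (e 0 0 d₂)⁻¹ * (c * e 0 0 d₂ * c⁻¹) * c := by rw [h1]
    _ = (e 0 0 d₂)⁻¹ * a * (c₁ * e 0 0 d₂) := by rw [hc₁]; group

end Pair

end Cfsg.Agent.Omega.All.NOne

end

section


/-!
# Counting characters

`card_le_index` : pairwise different characters `H → {±1}` trivial on a subgroup `K` are at most `|H : K|` many.
-/

set_option autoImplicit false

namespace Cfsg.Agent.Omega.All.NOne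

open Subgroup

/-- The number of pairwise different characters `H → {±1}` trivial on `K` is at most `|H : K|`. -/
theorem card_le_index {H : Type*} [Group H] [Finite H] (K : Subgroup H) {ι : Type*} [Finite ι]
    (χ : ι → H →* ℤˣ) (hinj : Function.Injective χ) (hK : ∀ i, ∀ k ∈ K, χ i k = 1) :
    Nat.card ι ≤ K.index := by
  classical
  let j : ℤˣ →* ℚ := (Int.castRingHom ℚ : ℤ →+* ℚ).toMonoidHom.comp (Units.coeHom ℤ)
  have hj : Function.Injective j := by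
    intro a b hab
    apply Units.ext
    exact_mod_cast (show ((a : ℤ) : ℚ) = ((b : ℤ) : ℚ) from hab)
  let f : ι → H →* ℚ := fun i => j.comp (χ i)
  have hf : Function.Injective f := by
    intro a b hab
    apply hinj
    ext1 x
    exact hj (DFunLike.congr_fun hab x)
  -- the functions on `H / K`
  let g : ι → (H ⧸ K) → ℚ := fun i => Quotient.lift (fun x => f i x) (by
    intro a b hab
    have h1 : a⁻¹ * b ∈ K := QuotientGroup.leftRel_apply.1 hab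
    have h2 : b = a * (a⁻¹ * b) := by group
    rw [h2, map_mul]
    have h3 : f i (a⁻¹ * b) = 1 := by
      change j (χ i (a⁻¹ * b)) = 1
      rw [hK i _ h1, map_one]
    rw [h3, mul_one])
  let L : ((H ⧸ K) → ℚ) →ₗ[ℚ] (H → ℚ) := LinearMap.funLeft ℚ ℚ (QuotientGroup.mk : H → H ⧸ K)
  have hL : ∀ i, L (g i) = (f i : H → ℚ) := fun i => rfl
  have h1 : LinearIndependent ℚ (fun i => (f i : H → ℚ)) :=
    (linearIndependent_monoidHom H ℚ).comp f hf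
  have h2 : LinearIndependent ℚ g := by
    apply LinearIndependent.of_comp L
    exact h1
  have : Fintype ι := Fintype.ofFinite ι
  have : Fintype (H ⧸ K) := Fintype.ofFinite _
  have h3 := h2.fintype_card_le_finrank
  rw [Module.finrank_fintype_fun_eq_card] at h3
  rw [Subgroup.index, Nat.card_eq_fintype_card, Nat.card_eq_fintype_card]
  exact h3

/-- A nontrivial elementary abelian 2-group (as a subgroup) has a character with values `±1` onto. -/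
theorem exists_char {G : Type*} [Group G] [Finite G] (R : Subgroup G) (hc : ∀ x ∈ R, ∀ y ∈ R, x * y = y * x)
    (h2 : ∀ x ∈ R, x * x = 1) {r : G} (hr : r ∈ R) (hr1 : r ≠ 1) : ∃ l : R →* ℤˣ, l ⟨r, hr⟩ = -1 := by
  classical
  -- a subgroup of `R` maximal with respect to not containing `r`
  let s : Set (Subgroup R) := {M | (⟨r, hr⟩ : R) ∉ M}
  have hs : s.Nonempty := ⟨⊥, by
    change (⟨r, hr⟩ : R) ∉ (⊥ : Subgroup R)
    rw [Subgroup.mem_bot]
    exact fun h => hr1 (congrArg Subtype.val h)⟩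
  obtain ⟨M, hM⟩ := (Set.toFinite s).exists_maximal hs
  have key : ∀ x : R, x ∈ M ∨ x * ⟨r, hr⟩ ∈ M := by
    intro x
    by_cases hx : x ∈ M
    · exact Or.inl hx
    right
    -- `M ∪ M x`
    let M' : Subgroup R :=
      { carrier := {y | y ∈ M ∨ y * x ∈ M}
        mul_mem' := by
          rintro a b (ha | ha) (hb | hb)
          · exact Or.inl (mul_mem ha hb)
          · right
            rw [mul_assoc]; exact mul_mem ha hb
          · right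
            have : a * b * x = a * x * b := by
              apply Subtype.ext
              change (a : G) * b * x = a * x * b
              rw [mul_assoc, hc _ b.2 _ x.2, mul_assoc]
            rw [this]; exact mul_mem ha hb
          · left
            have : a * b = a * x * (b * x) := by
              apply Subtype.ext
              change (a : G) * b = a * x * (b * x)
              calc (a : G) * b = a * b * (x * x) := by rw [h2 _ x.2, mul_one]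
                _ = a * (b * x) * x := by group
                _ = a * (x * b) * x := by rw [hc _ b.2 _ x.2]
                _ = a * x * (b * x) := by group
            rw [this]; exact mul_mem ha hb
        one_mem' := Or.inl (one_mem _)
        inv_mem' := by
          have hi : ∀ a : R, a⁻¹ = a := by
            intro a
            rw [inv_eq_iff_mul_eq_one]
            exact Subtype.ext (h2 _ a.2)
          intro a ha
          rw [hi a]; exact ha }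
    have hle : M ≤ M' := fun y hy => Or.inl hy
    have hxM' : x ∈ M' := Or.inr (by
      have : x * x = 1 := Subtype.ext (h2 _ x.2)
      rw [this]; exact one_mem _)
    have hM' : (⟨r, hr⟩ : R) ∈ M' := by
      by_contra hcon
      exact hx (hM.le_of_ge hcon hle hxM')
    rcases hM' with h3 | h3
    · exact absurd h3 hM.prop
    · have : x * ⟨r, hr⟩ = ⟨r, hr⟩ * x := Subtype.ext (hc _ x.2 _ hr)
      rw [this]; exact h3
  have hrM : (⟨r, hr⟩ : R) ∉ M := hM.prop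
  let l : R →* ℤˣ := MonoidHom.mk' (fun x => if x ∈ M then 1 else -1) (by
    intro a b
    by_cases ha : a ∈ M
    · by_cases hb : b ∈ M
      · simp [ha, hb, mul_mem ha hb]
      · have : a * b ∉ M := fun h => hb ((Subgroup.mul_mem_cancel_left M ha).1 h)
        simp [ha, hb, this]
    · by_cases hb : b ∈ M
      · have : a * b ∉ M := fun h => ha ((Subgroup.mul_mem_cancel_right M hb).1 h)
        simp [ha, hb, this]
      · have h1 := (key a).resolve_left ha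
        have h3 := (key b).resolve_left hb
        have : a * b ∈ M := by
          have h4 := mul_mem h1 h3
          have h5 : a * ⟨r, hr⟩ * (b * ⟨r, hr⟩) = a * b := by
            apply Subtype.ext
            change (a : G) * r * (b * r) = a * b
            calc (a : G) * r * (b * r) = a * (r * b) * r := by group
              _ = a * (b * r) * r := by rw [hc _ hr _ b.2]
              _ = a * b * (r * r) := by group
              _ = a * b := by rw [h2 _ hr, mul_one]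
          rwa [h5] at h4
        simp [ha, hb, this])
  refine ⟨l, ?_⟩
  change (if (⟨r, hr⟩ : R) ∈ M then (1 : ℤˣ) else -1) = -1
  rw [if_neg hrM]

end Cfsg.Agent.Omega.All.NOne

end

section


/-!
# THEOREM ALL-N1 (bb #15220): LEMMA W

* `Core.lemW` : there is no conjugate `cj g R = F x ≤ V`, `x` nonsingular, with `R ≤ cj g Q`;
* `Core.mx` : `N_G(V)` permutes the singular points of `V`.
-/

set_option autoImplicit false
set_option linter.unusedSectionVars false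

namespace Cfsg.Agent.Omega.All.NOne

open Subgroup Cfsg Cfsg.Agent.ZN Cfsg.Agent.Omega.MinPar

universe u

variable {G : Type u} [Group G]

/-- a 2-subgroup of `K ≥ S` lies in a conjugate of `S` under `K` -/
theorem exists_conj_sylow [Finite G] {K : Subgroup G} (S : Sylow 2 G) (hS : (S : Subgroup G) ≤ K) {A : Subgroup G}
    (hA : IsPGroup 2 A) (hAK : A ≤ K) : ∃ n ∈ K, ∀ a ∈ A, n⁻¹ * a * n ∈ (S : Subgroup G) := by
  have : Fact (Nat.Prime 2) := ⟨Nat.prime_two⟩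
  obtain ⟨Q, hQ⟩ := (hA.comap_of_injective K.subtype K.subtype_injective : IsPGroup 2 (A.subgroupOf K)).exists_le_sylow
  obtain ⟨n, hn⟩ := MulAction.exists_smul_eq K (S.subtype hS) Q
  refine ⟨n, n.2, fun a ha => ?_⟩
  have h1 : (⟨a, hAK ha⟩ : K) ∈ (Q : Subgroup K) := hQ (mem_subgroupOf.2 ha)
  rw [← hn] at h1
  have h2 : (n⁻¹ * ⟨a, hAK ha⟩ * n : K) ∈ ((S.subtype hS : Sylow 2 K) : Subgroup K) := by
    have h3 := Subgroup.mem_pointwise_smul_iff_inv_smul_mem.1 h1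
    rw [← map_inv, MulAut.smul_def, MulAut.conj_apply, inv_inv] at h3
    exact h3
  exact h2

/-- `K₀ ≤ K₁`, no two elements `a`, `b` of `K₁` with `a, b, a b ∉ K₀`: the index is at most 2. -/
theorem relIndex_le_two {H : Type*} [Group H] [Finite H] {K₀ K₁ : Subgroup H}
    (h : ∀ a ∈ K₁, ∀ b ∈ K₁, a ∈ K₀ ∨ b ∈ K₀ ∨ a * b ∈ K₀) : K₀.relIndex K₁ ≤ 2 := by
  classical
  by_cases h1 : K₁ ≤ K₀
  · rw [relIndex_eq_one.2 h1]; norm_num
  obtain ⟨y, hy, hy0⟩ := SetLike.not_le_iff_exists.1 h1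
  rw [relIndex, Subgroup.index]
  have h2 : Function.Surjective (fun b : Bool => (QuotientGroup.mk (if b then ⟨y, hy⟩ else 1) : K₁ ⧸ K₀.subgroupOf K₁)) := by
    intro q
    obtain ⟨x, rfl⟩ := QuotientGroup.mk_surjective q
    by_cases hx : (x : H) ∈ K₀
    · refine ⟨false, ?_⟩
      rw [QuotientGroup.eq]
      simpa [mem_subgroupOf] using hx
    · refine ⟨true, ?_⟩
      rw [QuotientGroup.eq]
      have h3 := h y⁻¹ (inv_mem hy) x x.2
      rcases h3 with h3 | h3 | h3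
      · exact absurd (by simpa using inv_mem h3) hy0
      · exact absurd h3 hx
      · simpa [mem_subgroupOf] using h3
  have h3 := Nat.card_le_card_of_surjective _ h2
  simpa using h3

namespace Core

variable {F T : Type*} [Field F] [AddCommGroup T] [Module F T]
  {V R Q X : Subgroup G} {e : F → T → F → G} {N : T → F} {B : T → T → F}

variable [Finite G] (S : Sylow 2 G) (h : Core (S : Subgroup G) V R Q X e N B) (hG : IsCharacteristicTwoType G)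
  (hZ : zc (S : Subgroup G) ≠ ⊥)
include h hG hZ

/-- **LEMMA W.** -/
theorem lemW {g : G} {b : T} (hb : N b ≠ 0) (hline : ∀ y, y ∈ cj g R ↔ ∃ s : F, e 0 (s • b) 0 = y)
    (hRQ : R ≤ cj g Q) : False := by
  classical
  have hf := h.form
  have := h.finite_F
  have hb0 : b ≠ 0 := hf.ne_zero_of_N hb
  have hxR : ∀ s : F, e 0 (s • b) 0 ∈ cj g R := fun s => (hline _).2 ⟨s, rfl⟩
  have hx : e 0 b 0 ∈ cj g R := by
    have := hxR 1
    rwa [one_smul] at this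
  have hx1 : e 0 b 0 ≠ 1 := fun h0 => hb0 (h.e_inj _ _ _ h0).2.1
  have hRQ' : ∀ r ∈ cj g R, r ∈ cj g Q := fun r hr => h.cj_R_Q hr
  -- `x^⊥ ≤ Q_x`
  obtain ⟨n, hn, hna⟩ := h.opp b hb
  have hnx : n * e 0 b 0 = e 0 b 0 * n := by
    have h1 := hna 0 b 0
    rw [hf.B_self, mul_zero, zero_smul, add_zero, add_zero, add_zero] at h1
    calc n * e 0 b 0 = n * e 0 b 0 * n⁻¹ * n := by group
      _ = e 0 b 0 * n := by rw [h1]
  have hd : ∀ d, e 0 0 d ∈ cj g Q := by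
    intro d
    set a := d / N b with ha
    have h1 : e a (a • b) d ∈ cj g Q := by
      have h2 := h.cen_cj_Q S hG hZ hx hx1 hnx (hRQ (h.e_R a))
      rw [hna, hf.zero_B, zero_add, zero_add, zero_add] at h2
      have h3 : N b * a = d := by rw [ha, mul_div_cancel₀ _ hb]
      rwa [h3] at h2
    have h2 := mul_mem (mul_mem h1 (hRQ (h.e_R a))) (hRQ' _ (hxR a))
    rw [← h.e_add, ← h.e_add] at h2
    rwa [hf.F2, add_zero, add_zero, add_zero, hf.T2, add_zero] at h2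
  have hperp : ∀ a (s : F) d, e a (s • b) d ∈ cj g Q := by
    intro a s d
    have h1 := mul_mem (mul_mem (hRQ (h.e_R a)) (hRQ' _ (hxR s))) (hd d)
    rw [← h.e_add, ← h.e_add] at h1
    rwa [add_zero, add_zero, zero_add, add_zero, zero_add, zero_add] at h1
  -- `Y = C_{Q_x}(R)` normalises `x^⊥`
  have hYx : ∀ y ∈ cj g Q, ∀ a (s : F) d, ∃ s' : F, y * e a (s • b) d * y⁻¹ = e a (s' • b) d := by
    intro y hy a s d
    obtain ⟨t, ht⟩ := (hline _).1 (h.cj_QQ hy (hperp a s d))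
    refine ⟨t + s, ?_⟩
    calc y * e a (s • b) d * y⁻¹ = (y * e a (s • b) d * y⁻¹ * (e a (s • b) d)⁻¹) * e a (s • b) d := by group
      _ = e 0 (t • b) 0 * e a (s • b) d := by rw [ht]
      _ = e a ((t + s) • b) d := by rw [← h.e_add, zero_add, zero_add, add_smul]
  have hYx1 : ∀ y ∈ cj g Q, ∀ a d, ∃ s' : F, y * e a 0 d * y⁻¹ = e a (s' • b) d := by
    intro y hy a d
    have := hYx y hy a 0 d
    rwa [zero_smul] at this
  -- `Y ≤ N(V)`
  have hYV' : ∀ y ∈ cj g Q, y ∈ centralizer (R : Set G) → ∀ v ∈ V, y * v * y⁻¹ ∈ V := by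
    intro y hy hyR v hv
    have hyN := h.cenR_norm hyR
    have hyr : ∀ a, y * e a 0 0 * y⁻¹ = e a 0 0 := by
      intro a
      rw [← (mem_centralizer_iff.1 hyR) _ (h.e_R a)]; group
    obtain ⟨a, c, d, rfl⟩ := h.e_surj v hv
    obtain ⟨q, hq, hqa⟩ := h.act_surj c
    have e1 : e a c d = q * e 0 0 1 * q⁻¹ * (e 0 0 1)⁻¹ * (e (a + N c) 0 0 * e 0 0 d) := by
      rw [hqa, h.e_inv, ← h.e_add, ← h.e_add, ← h.e_add]
      have e2 : 0 + B 0 c + N c * 1 + 0 + (a + N c + 0) = a := by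
        rw [hf.zero_B]
        linear_combination hf.F2 (N c)
      have e3 : 0 + (1 : F) • c + 0 + (0 + 0) = c := by rw [one_smul]; simp
      have e4 : 1 + 1 + (0 + d) = d := by rw [hf.F2]; simp
      rw [e2, e3, e4]
    have hq' : y * q * y⁻¹ ∈ Q := h.Q_nor hyN hq
    obtain ⟨s', hs'⟩ := hYx1 y hy 0 1
    obtain ⟨s'', hs''⟩ := hYx1 y hy 0 d
    have hq'V : y * q * y⁻¹ ∈ normalizer (V : Set G) := h.X_V (h.Q_X hq')
    have e2 : y * e a c d * y⁻¹ = (y * q * y⁻¹) * (y * e 0 0 1 * y⁻¹) * (y * q * y⁻¹)⁻¹ * (y * e 0 0 1 * y⁻¹)⁻¹ *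
        ((y * e (a + N c) 0 0 * y⁻¹) * (y * e 0 0 d * y⁻¹)) := by
      rw [e1]; group
    rw [e2, hs', hs'', hyr]
    exact mul_mem (mul_mem (h.V_nor hq'V (h.e_mem _ _ _)) (inv_mem (h.e_mem _ _ _)))
      (mul_mem (h.e_mem _ _ _) (h.e_mem _ _ _))
  let Y : Subgroup G := cj g Q ⊓ centralizer (R : Set G)
  have hYV : Y ≤ normalizer (V : Set G) := by
    intro y hy
    apply mem_norm_of (hYV' y hy.1 hy.2)
    intro v hv
    have := hYV' y⁻¹ (inv_mem hy.1) (inv_mem hy.2) v hv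
    rwa [inv_inv] at this
  -- Sylow
  have hYp : IsPGroup 2 Y := by
    have h1 : IsPGroup 2 (cj g Q) := by
      have h2 : IsPGroup 2 Q := by
        rw [h.Q_eq]; exact MinSimple.VModule.o2_isPGroup _
      exact h2.map _
    exact h1.to_le inf_le_left
  obtain ⟨m, hm, hmS⟩ := exists_conj_sylow (K := normalizer (V : Set G) ⊓ normalizer (R : Set G)) S
    (le_inf h.S_V h.S_R) hYp (le_inf hYV (inf_le_right.trans h.cenR_norm))
  have hmR : ∀ y ∈ Y, m⁻¹ * y * m ∈ centralizer (R : Set G) := by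
    intro y hy
    rw [mem_centralizer_iff]
    intro r hr
    have h1 := (mem_centralizer_iff.1 hy.2) _ (h.R_nor hm.2 hr)
    calc r * (m⁻¹ * y * m) = m⁻¹ * (m * r * m⁻¹ * y) * m := by group
      _ = m⁻¹ * (y * (m * r * m⁻¹)) * m := by rw [h1]
      _ = m⁻¹ * y * m * r := by group
  -- an element of `Y` acting as an element of `Q` centralises `V`
  have key : ∀ y ∈ Y, (∃ q ∈ Q, m⁻¹ * y * m * q⁻¹ ∈ centralizer (V : Set G)) → y ∈ centralizer (V : Set G) := by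
    rintro y hy ⟨q, hq, hqV⟩
    have hq' : m * q * m⁻¹ ∈ Q := h.Q_nor hm.2 hq
    have h1 : y * (m * q * m⁻¹)⁻¹ ∈ centralizer (V : Set G) := by
      rw [mem_centralizer_iff]
      intro v hv
      have h2 := (mem_centralizer_iff.1 hqV) _ (h.V_nor' hm.1 hv)
      calc v * (y * (m * q * m⁻¹)⁻¹) = m * (m⁻¹ * v * m * (m⁻¹ * y * m * q⁻¹)) * m⁻¹ := by group
        _ = m * (m⁻¹ * y * m * q⁻¹ * (m⁻¹ * v * m)) * m⁻¹ := by rw [h2]
        _ = y * (m * q * m⁻¹)⁻¹ * v := by group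
    set q' := m * q * m⁻¹ with hq'def
    have hact : ∀ v ∈ V, y * v * y⁻¹ = q' * v * q'⁻¹ := by
      intro v hv
      have hv' : q' * v * q'⁻¹ ∈ V := h.V_nor (h.X_V (h.Q_X hq')) hv
      have h2 := (mem_centralizer_iff.1 h1) _ hv'
      calc y * v * y⁻¹ = (y * q'⁻¹) * (q' * v * q'⁻¹) * (y * q'⁻¹)⁻¹ := by group
        _ = (q' * v * q'⁻¹) * (y * q'⁻¹) * (y * q'⁻¹)⁻¹ := by rw [h2]
        _ = q' * v * q'⁻¹ := by group
    obtain ⟨c, hc⟩ := h.act q' hq'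
    -- `y` fixes `x`
    have h2 : y * e 0 b 0 * y⁻¹ = e 0 b 0 := by
      rw [← h.cj_cen hy.1 hx]; group
    rw [hact _ (h.e_mem _ _ _), hc] at h2
    obtain ⟨h3, -, -⟩ := h.e_eq h2
    rw [mul_zero, add_zero, zero_add] at h3
    obtain ⟨s, rfl⟩ := hf.B_span b c hb0 h3
    obtain ⟨s', hs'⟩ := hYx1 y hy.1 0 1
    rw [hact _ (h.e_mem _ _ _), hc] at hs'
    obtain ⟨h4, -, -⟩ := h.e_eq hs'
    rw [hf.zero_B, zero_add, zero_add, mul_one, hf.N_smul] at h4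
    have hs : s = 0 := by
      have h5 := (mul_eq_zero.1 h4).resolve_right hb
      exact pow_eq_zero_iff two_ne_zero |>.1 h5
    subst hs
    rw [mem_centralizer_iff]
    intro v hv
    obtain ⟨a', b', d', rfl⟩ := h.e_surj v hv
    have h5 := hc a' b' d'
    rw [zero_smul, hf.B_zero, hf.N_zero, smul_zero, zero_mul, add_zero, add_zero, add_zero] at h5
    have h6 := hact _ (h.e_mem a' b' d')
    rw [h5] at h6
    calc e a' b' d' * y = (y * e a' b' d' * y⁻¹) * y := by rw [h6]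
      _ = y * e a' b' d' := by group
  have hpair : ∀ y₁ ∈ Y, ∀ y₂ ∈ Y, y₁ ∈ centralizer (V : Set G) ∨ y₂ ∈ centralizer (V : Set G) ∨
      y₁ * y₂ ∈ centralizer (V : Set G) := by
    intro y₁ h₁ y₂ h₂
    rcases h.two _ (hmS y₁ h₁) (hmR y₁ h₁) _ (hmS y₂ h₂) (hmR y₂ h₂) with h3 | h3 | h3
    · exact Or.inl (key y₁ h₁ h3)
    · exact Or.inr (Or.inl (key y₂ h₂ h3))
    · refine Or.inr (Or.inr (key _ (mul_mem h₁ h₂) ?_))
      obtain ⟨q, hq, h4⟩ := h3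
      refine ⟨q, hq, ?_⟩
      have e1 : m⁻¹ * (y₁ * y₂) * m * q⁻¹ = m⁻¹ * y₁ * m * (m⁻¹ * y₂ * m) * q⁻¹ := by group
      rw [e1]; exact h4
  -- counting in `H = Q_x`
  let H : Subgroup G := cj g Q
  let K₀ : Subgroup H := (centralizer (V : Set G)).subgroupOf H
  let K₁ : Subgroup H := (centralizer (R : Set G)).subgroupOf H
  -- the commutator homomorphisms
  have hcm : ∀ w ∈ H, ∀ y ∈ H, y * w * y⁻¹ * w⁻¹ ∈ cj g R := fun w hw y hy => h.cj_QQ hy hw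
  let ψ : ∀ w ∈ H, H →* cj g R := fun w hw =>
    MonoidHom.mk' (fun y => ⟨y * w * (y : G)⁻¹ * w⁻¹, hcm w hw y y.2⟩) (by
      intro y y'
      apply Subtype.ext
      change (y * y' : G) * w * (y * y' : G)⁻¹ * w⁻¹ = y * w * (y : G)⁻¹ * w⁻¹ * (y' * w * (y' : G)⁻¹ * w⁻¹)
      have h1 := h.cj_cen y.2 (hcm w hw y' y'.2)
      have h2 := h.cj_cen hw (hcm w hw y' y'.2)
      calc (y * y' : G) * w * (y * y' : G)⁻¹ * w⁻¹
          = (y * (y' * w * (y' : G)⁻¹ * w⁻¹)) * w * (y : G)⁻¹ * w⁻¹ := by group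
        _ = ((y' * w * (y' : G)⁻¹ * w⁻¹) * y) * w * (y : G)⁻¹ * w⁻¹ := by rw [h1]
        _ = (y' * w * (y' : G)⁻¹ * w⁻¹) * (y * w * (y : G)⁻¹ * w⁻¹) := by group
        _ = y * w * (y : G)⁻¹ * w⁻¹ * (y' * w * (y' : G)⁻¹ * w⁻¹) := by
            exact congrArg Subtype.val (show (⟨_, hcm w hw y' y'.2⟩ : cj g R) * ⟨_, hcm w hw y y.2⟩ =
              ⟨_, hcm w hw y y.2⟩ * ⟨_, hcm w hw y' y'.2⟩ from by
                apply Subtype.ext
                exact (h.cj_cen (hRQ' _ (hcm w hw y y.2)) (hcm w hw y' y'.2))))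
  have hψ : ∀ w hw y, ((ψ w hw y : cj g R) : G) = y * w * (y : G)⁻¹ * w⁻¹ := fun w hw y => rfl
  -- `|H : K₁| ≤ q`
  have hr0 : e 1 0 0 ∈ H := hRQ (h.e_R 1)
  have hr0R : e 1 0 0 ∉ cj g R := by
    intro h0
    obtain ⟨s, hs⟩ := (hline _).1 h0
    exact one_ne_zero (h.e_eq hs).1.symm
  have hr01 : e 1 0 0 ≠ 1 := fun h0 => one_ne_zero (h.e_inj _ _ _ h0).1
  have hK₁ : (ψ _ hr0).ker ≤ K₁ := by
    intro y hy
    rw [MonoidHom.mem_ker] at hy
    have h1 : (y : G) * e 1 0 0 * (y : G)⁻¹ * (e 1 0 0)⁻¹ = 1 := congrArg Subtype.val hy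
    have h2 : (y : G) * e 1 0 0 = e 1 0 0 * y := by
      calc (y : G) * e 1 0 0 = (y * e 1 0 0 * (y : G)⁻¹ * (e 1 0 0)⁻¹) * e 1 0 0 * y := by group
        _ = e 1 0 0 * y := by rw [h1, one_mul]
    have h3 := h.cen_le S hG hZ (h.e_R 1) hr01 h2
    rw [mem_subgroupOf, mem_centralizer_iff]
    intro r hr
    obtain ⟨a, rfl⟩ := (h.R_iff r).1 hr
    have h4 : (y : G) * e a 0 0 * (y : G)⁻¹ * (e a 0 0)⁻¹ ∈ R := mul_mem (h.R_nor h3 hr) (inv_mem hr)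
    obtain ⟨s, hs⟩ := (hline _).1 (h.cj_QQ y.2 (hRQ hr))
    rw [← hs] at h4
    obtain ⟨h5, -⟩ := h.of_mem_R h4
    rw [h5, h.e_zero] at hs
    calc e a 0 0 * (y : G) = 1 * e a 0 0 * y := by group
      _ = (y * e a 0 0 * (y : G)⁻¹ * (e a 0 0)⁻¹) * e a 0 0 * y := by rw [hs]
      _ = (y : G) * e a 0 0 := by group
  have hq1 : K₁.index ≤ Nat.card F := by
    have h1 : (ψ _ hr0).ker.index ≤ Nat.card F := by
      rw [Subgroup.index_ker]
      refine le_trans (Finite.card_subtype_le _) ?_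
      rw [card_cj, h.card_R]
    refine le_trans ?_ h1
    exact Nat.le_of_dvd (Nat.pos_of_ne_zero (Subgroup.index_ne_zero_of_finite)) (Subgroup.index_dvd_of_le hK₁)
  have hK₀₁ : K₀ ≤ K₁ := fun y hy => h.cenV_cenR hy
  have hq2 : K₀.index ≤ 2 * Nat.card F := by
    have h1 : K₀.relIndex K₁ ≤ 2 := by
      apply relIndex_le_two
      intro a ha b hb
      exact hpair a ⟨a.2, ha⟩ b ⟨b.2, hb⟩
    rw [← relIndex_mul_index hK₀₁]
    exact Nat.mul_le_mul h1 hq1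
  -- the characters
  obtain ⟨l, hl⟩ := exists_char (cj g R)
    (fun x hx y hy => h.cj_cen (hRQ' _ hy) hx)
    (fun x hx => by
      obtain ⟨s, rfl⟩ := (hline _).1 hx
      exact h.e_sq _ _ _) hx hx1
  have hwH : ∀ a d, e a 0 d ∈ H := by
    intro a d
    have := hperp a 0 d
    rwa [zero_smul] at this
  let χ : F × F → H →* ℤˣ := fun i => l.comp (ψ _ (hwH i.1 i.2))
  have hinj : Function.Injective χ := by
    rintro ⟨a, d⟩ ⟨a', d'⟩ hχ
    by_contra hne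
    have hw : e (a + a') 0 (d + d') ∈ H := hwH _ _
    have hwR : e (a + a') 0 (d + d') ∉ cj g R := by
      intro h0
      obtain ⟨s, hs⟩ := (hline _).1 h0
      obtain ⟨h1, -, h2⟩ := h.e_eq hs
      apply hne
      have h3 : a = a' := by
        rw [← hf.neg_F a']; exact eq_neg_of_add_eq_zero_left h1.symm
      have h4 : d = d' := by
        rw [← hf.neg_F d']; exact eq_neg_of_add_eq_zero_left h2.symm
      rw [h3, h4]
    obtain ⟨y, hy, h1⟩ := h.cj_semi hw hwR hx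
    have h2 : l (ψ _ hw ⟨y, hy⟩) = -1 := by
      rw [← hl]
      congr 1
      exact Subtype.ext h1
    have h3 : ψ _ hw ⟨y, hy⟩ = ψ _ (hwH a d) ⟨y, hy⟩ * ψ _ (hwH a' d') ⟨y, hy⟩ := by
      apply Subtype.ext
      change y * e (a + a') 0 (d + d') * y⁻¹ * (e (a + a') 0 (d + d'))⁻¹ =
        y * e a 0 d * y⁻¹ * (e a 0 d)⁻¹ * (y * e a' 0 d' * y⁻¹ * (e a' 0 d')⁻¹)
      have e1 : e (a + a') 0 (d + d') = e a 0 d * e a' 0 d' := by rw [← h.e_add, add_zero]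
      have h4 := h.cj_cen (hwH a d) (hcm _ (hwH a' d') y hy)
      have h5 : e a' 0 d' * e a 0 d = e a 0 d * e a' 0 d' := h.e_comm _ _ _ _ _ _
      rw [e1]
      calc y * (e a 0 d * e a' 0 d') * y⁻¹ * (e a 0 d * e a' 0 d')⁻¹
          = y * e a 0 d * y⁻¹ * ((y * e a' 0 d' * y⁻¹ * (e a' 0 d')⁻¹) * (e a 0 d)⁻¹) := by group
        _ = y * e a 0 d * y⁻¹ * ((e a 0 d)⁻¹ * (y * e a' 0 d' * y⁻¹ * (e a' 0 d')⁻¹)) := by
            rw [h.cj_cen (inv_mem (hwH a d)) (hcm _ (hwH a' d') y hy)]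
        _ = y * e a 0 d * y⁻¹ * (e a 0 d)⁻¹ * (y * e a' 0 d' * y⁻¹ * (e a' 0 d')⁻¹) := by group
    rw [h3, map_mul] at h2
    have h4 : l (ψ _ (hwH a d) ⟨y, hy⟩) = l (ψ _ (hwH a' d') ⟨y, hy⟩) := DFunLike.congr_fun hχ ⟨y, hy⟩
    rw [h4, Int.units_mul_self] at h2
    exact absurd h2 (by decide)
  have hq3 := card_le_index K₀ χ hinj (by
    rintro ⟨a, d⟩ y hy
    have h1 : ψ _ (hwH a d) y = 1 := by
      apply Subtype.ext
      change (y : G) * e a 0 d * (y : G)⁻¹ * (e a 0 d)⁻¹ = 1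
      have h2 := (mem_centralizer_iff.1 (mem_subgroupOf.1 hy)) _ (h.e_mem a 0 d)
      rw [← h2]; group
    change l (ψ _ (hwH a d) y) = 1
    rw [h1, map_one])
  rw [Nat.card_prod] at hq3
  have hq4 : Nat.card F * Nat.card F ≤ 2 * Nat.card F := hq3.trans hq2
  have hq5 := hf.four
  have : Nat.card F * 4 ≤ Nat.card F * Nat.card F := Nat.mul_le_mul_left _ hq5
  omega

/-- **`N_G(V)` permutes the singular points of `V`** (MX). -/
theorem mx {m : G} (hm : m ∈ normalizer (V : Set G)) : ∃ x ∈ X, x * m ∈ normalizer (R : Set G) := by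
  classical
  have hf := h.form
  have := h.finite_F
  have hr01 : e 1 0 0 ≠ 1 := fun h0 => one_ne_zero (h.e_inj _ _ _ h0).1
  obtain ⟨a, y, d, hr⟩ := h.e_surj _ (h.V_nor hm (h.e_mem 1 0 0))
  by_cases hsing : a * d + N y = 0
  · obtain ⟨x, hx, h1⟩ := h.exists_sing hsing
    refine ⟨x, hx, ?_⟩
    apply h.ti S hG hZ (h.e_R 1) hr01
    rw [hr] at h1
    have e1 : x * m * e 1 0 0 * (x * m)⁻¹ = x * (m * e 1 0 0 * m⁻¹) * x⁻¹ := by group
    rw [e1]; exact h1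
  · exfalso
    obtain ⟨x, hx, b, hb, h1⟩ := h.exists_nonsing hsing
    rw [hr] at h1
    have hb0 : b ≠ 0 := hf.ne_zero_of_N hb
    set k := x * m with hk
    have hkV : k ∈ normalizer (V : Set G) := mul_mem (h.X_V hx) hm
    have hx0 : e 0 b 0 ∈ cj k R := by
      have e1 : e 0 b 0 = k * e 1 0 0 * k⁻¹ := by rw [← h1, hk]; group
      rw [e1]; exact conj_mem_cj (h.e_R 1)
    have hx1 : e 0 b 0 ≠ 1 := fun h0 => hb0 (h.e_inj _ _ _ h0).2.1
    have hkRV : cj k R ≤ V := by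
      intro y hy
      rw [mem_cj] at hy
      have := h.V_nor hkV (h.R_V hy)
      have e1 : k * (k⁻¹ * y * k) * k⁻¹ = y := by group
      rwa [e1] at this
    have hline := h.line_of S hG hZ hb hkRV hx0
    refine h.lemW S hG hZ hb hline ?_
    -- `H = V ∩ Q_x`
    let E : Subgroup G := V ⊓ Q
    let H : Subgroup G := cj k E
    have hHV : ∀ y ∈ H, y ∈ V := by
      intro y hy
      have h2 := (mem_cj.1 hy).1
      have := h.V_nor hkV h2
      have e1 : k * (k⁻¹ * y * k) * k⁻¹ = y := by group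
      rwa [e1] at this
    have hHQ : ∀ y ∈ H, y ∈ cj k Q := fun y hy => mem_cj.2 (mem_cj.1 hy).2
    have hH : ∀ y ∈ V, y ∈ cj k Q → y ∈ H := fun y hy hyQ =>
      mem_cj.2 ⟨h.V_nor' hkV hy, mem_cj.1 hyQ⟩
    have hHx : ∀ s : F, e 0 (s • b) 0 ∈ H := fun s =>
      hH _ (h.e_mem _ _ _) (h.cj_R_Q ((hline _).2 ⟨s, rfl⟩))
    have hHn : ∀ n ∈ normalizer (V : Set G), n * e 0 b 0 = e 0 b 0 * n → ∀ y ∈ H, n * y * n⁻¹ ∈ H := by
      intro n hn hnx y hy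
      exact hH _ (h.V_nor hn (hHV y hy)) (h.cen_cj_Q S hG hZ hx0 hx1 hnx (hHQ y hy))
    suffices hRH : R ≤ H from fun r hr => hHQ r (hRH hr)
    by_cases hcase : ∃ a y d, e a y d ∈ H ∧ d ≠ 0
    · obtain ⟨a, y, d, hw, hd⟩ := hcase
      -- `(a_s, 0, 0) ∈ H`
      have ha : ∀ s : F, e (s * B y b + s ^ 2 * N b * d) 0 0 ∈ H := by
        intro s
        obtain ⟨q, hq, hqa⟩ := h.act_surj (s • b)
        have hqx : q * e 0 b 0 = e 0 b 0 * q := by
          have h1 := hqa 0 b 0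
          rw [hf.B_smul', hf.B_self, mul_zero, mul_zero, zero_smul, add_zero, add_zero, add_zero] at h1
          calc q * e 0 b 0 = q * e 0 b 0 * q⁻¹ * q := by group
            _ = e 0 b 0 * q := by rw [h1]
        have h2 := mul_mem (mul_mem (hHn q (h.X_V (h.Q_X hq)) hqx _ hw) hw) (hHx (d * s))
        rw [hqa, ← h.e_add, ← h.e_add] at h2
        have e1 : a + B y (s • b) + N (s • b) * d + a + 0 = s * B y b + s ^ 2 * N b * d := by
          rw [hf.B_smul', hf.N_smul]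
          linear_combination hf.F2 a
        have e2 : y + d • s • b + y + (d * s) • b = 0 := by
          rw [mul_smul]
          have e3 : y + d • s • b + y + d • s • b = (y + y) + (d • s • b + d • s • b) := by abel
          rw [e3, hf.T2, hf.T2, add_zero]
        have e3 : d + d + (0 : F) = 0 := by rw [hf.F2, add_zero]
        rwa [e1, e2, e3] at h2
      obtain ⟨s, hs⟩ : ∃ s : F, s * B y b + s ^ 2 * N b * d ≠ 0 := by
        by_contra hcon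
        push Not at hcon
        obtain ⟨t, ht, ht1⟩ := h.exists_two
        have h2 := hcon 1
        have h3 := hcon t
        rw [one_mul, one_pow, one_mul] at h2
        have h4 : t * (1 + t) * (N b * d) = 0 := by
          linear_combination h3 + t * h2 - t * hf.F2 (B y b)
        have h5 := (mul_eq_zero.1 h4).resolve_left (mul_ne_zero ht ht1)
        exact hd ((mul_eq_zero.1 h5).resolve_left hb)
      set a₁ := s * B y b + s ^ 2 * N b * d with ha₁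
      -- `(0, 0, d') ∈ H`
      have hd' : ∀ d' : F, e 0 0 d' ∈ H := by
        intro d'
        by_cases hd0 : d' = 0
        · rw [hd0, h.e_zero]; exact one_mem _
        obtain ⟨t, ht⟩ := h.exists_sqrt (d' / (N b * a₁))
        have ht0 : t ≠ 0 := by
          rintro rfl
          rw [zero_pow two_ne_zero] at ht
          exact (div_ne_zero hd0 (mul_ne_zero hb hs)) ht.symm
        have hN : N (t • b) ≠ 0 := by
          rw [hf.N_smul]; exact mul_ne_zero (pow_ne_zero 2 ht0) hb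
        obtain ⟨n, hn, hna⟩ := h.opp (t • b) hN
        have hnx : n * e 0 b 0 = e 0 b 0 * n := by
          have h1 := hna 0 b 0
          rw [hf.B_smul', hf.B_self, mul_zero, mul_zero, zero_smul, add_zero, add_zero, add_zero] at h1
          calc n * e 0 b 0 = n * e 0 b 0 * n⁻¹ * n := by group
            _ = e 0 b 0 * n := by rw [h1]
        have h2 := mul_mem (mul_mem (hHn n (h.X_V hn) hnx _ (ha s)) (ha s)) (hHx (a₁ * t))
        rw [← ha₁, hna, ← h.e_add, ← h.e_add] at h2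
        have e1 : a₁ + a₁ + 0 = 0 := by rw [hf.F2, add_zero]
        have e2 : 0 + a₁ • t • b + 0 + (a₁ * t) • b = 0 := by
          rw [mul_smul, zero_add, add_zero, hf.T2]
        have e3 : 0 + B 0 (t • b) + N (t • b) * a₁ + 0 + 0 = d' := by
          rw [hf.zero_B, hf.N_smul, ht]
          field_simp
          ring
        rwa [e1, e2, e3] at h2
      -- `(a', 0, 0) ∈ H`
      intro r hr
      obtain ⟨a', rfl⟩ := (h.R_iff r).1 hr
      obtain ⟨q, hq, hqa⟩ := h.act_surj b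
      have hqx : q * e 0 b 0 = e 0 b 0 * q := by
        have h1 := hqa 0 b 0
        rw [hf.B_self, mul_zero, zero_smul, add_zero, add_zero, add_zero] at h1
        calc q * e 0 b 0 = q * e 0 b 0 * q⁻¹ * q := by group
          _ = e 0 b 0 * q := by rw [h1]
      have h2 := mul_mem (mul_mem (hHn q (h.X_V (h.Q_X hq)) hqx _ (hd' (a' / N b))) (hd' (a' / N b)))
        (hHx (a' / N b))
      rw [hqa, ← h.e_add, ← h.e_add] at h2
      have e1 : 0 + B 0 b + N b * (a' / N b) + 0 + 0 = a' := by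
        rw [hf.zero_B, mul_div_cancel₀ _ hb]; ring
      have e2 : 0 + (a' / N b) • b + 0 + (a' / N b) • b = 0 := by
        rw [zero_add, add_zero, hf.T2]
      have e3 : a' / N b + a' / N b + 0 = 0 := by rw [hf.F2, add_zero]
      rwa [e1, e2, e3] at h2
    · push Not at hcase
      have hHE : H ≤ E := by
        intro w hw
        obtain ⟨a, y, d, rfl⟩ := h.e_surj w (hHV w hw)
        obtain rfl := hcase a y d hw
        exact ⟨h.e_mem _ _ _, h.E_le _ _⟩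
      have h2 : H = E := Subgroup.eq_of_le_of_card_ge hHE (by rw [card_cj])
      rw [h2]
      exact fun r hr => ⟨h.R_V hr, h.R_Q hr⟩

end Core

end Cfsg.Agent.Omega.All.NOne

end

section


/-!
# THEOREM ALL-N1 (bb #15220)

* `Ext` : the additional input for `V = V_{P₁}` (structure of `L = V D C_Q(V)`, `D = C(V) ∩ Q_∞`);
* `Core.zl_le_R` : (B2) `V_P ≤ Q` implies `V_P ≤ R`;
* `Core.eq_of_core` : (B3) `V_P ≰ Q` implies `V_P = V`;
* `Core.par_le` : every `P ∈ P(S)` lies in `N_G(R)` or in `N_G(V)`.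
-/

set_option autoImplicit false
set_option linter.unusedSectionVars false

namespace Cfsg.Agent.Omega.All.NOne

open Subgroup Cfsg Cfsg.Agent.ZN Cfsg.Agent.Omega.MinPar
open Cfsg.Agent.MinSimple.VModule (le_o2 o2_le o2_isPGroup le_normalizer_o2 mem_zc zc_le zl_le zc_le_zl
  le_normalizer_zl zc_comm)
open Cfsg.Agent.Omega.FrameNOFF (CZ)

universe u

variable {G : Type u} [Group G]

/-- The structure of `L = V D C_Q(V)`, where `D = C(V) ∩ Q_∞` for an opposite point. -/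
structure Ext {F T : Type*} [Field F] [AddCommGroup T] [Module F T] (S V R Q D : Subgroup G)
    (e : F → T → F → G) : Prop where
  D_V : D ≤ centralizer (V : Set G)
  D_S : D ≤ S
  D_nor : ∀ c ∈ centralizer (V : Set G), ∀ y ∈ D, c * y * c⁻¹ ∈ D
  D_Q : ∀ y ∈ D, y ∈ Q → y ∈ V
  D_R : ∀ y ∈ D, y ∈ R → y = 1
  /-- `C_Q(V) ≤ V D D^u` -/
  sp : ∀ w ∈ Q, w ∈ centralizer (V : Set G) → ∃ u ∈ Q, ∃ d ∈ D, ∃ d' ∈ D, ∃ v ∈ V, w = v * d * (u * d' * u⁻¹)
  /-- `C_Q(C_Q(V)) ≤ V` -/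
  cc : ∀ w ∈ Q, (∀ y ∈ Q, y ∈ centralizer (V : Set G) → y * w = w * y) → w ∈ V
  /-- `C_G(V) ∩ C_G(L/V) ≤ L` -/
  norm : ∀ c ∈ centralizer (V : Set G), (∀ d ∈ D, c * d * c⁻¹ * d⁻¹ ∈ V) →
    (∀ w ∈ Q, w ∈ centralizer (V : Set G) → c * w * c⁻¹ * w⁻¹ ∈ V) →
    ∃ v ∈ V, ∃ d ∈ D, ∃ w ∈ Q, w ∈ centralizer (V : Set G) ∧ c = v * d * w
  /-- `[C_Q(V), l] [C_Q(V), l^s] R ≥ V ∩ Q` for `l ∈ L - V C_Q(V)` and some `s ∈ S` -/
  big : ∀ v ∈ V, ∀ d ∈ D, ∀ w ∈ Q, w ∈ centralizer (V : Set G) →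
    (¬ ∃ v' ∈ V, ∃ w' ∈ Q, w' ∈ centralizer (V : Set G) ∧ v * d * w = v' * w') →
    ∃ s ∈ S, ∀ b, ∃ w₁ ∈ Q, w₁ ∈ centralizer (V : Set G) ∧ ∃ w₂ ∈ Q, w₂ ∈ centralizer (V : Set G) ∧
      ∃ r ∈ R, e 0 b 0 = w₁ * (v * d * w) * w₁⁻¹ * (v * d * w)⁻¹ *
        (w₂ * (s * (v * d * w) * s⁻¹) * w₂⁻¹ * (s * (v * d * w) * s⁻¹)⁻¹) * r

/-- A fixed point modulo `R`. -/
theorem exists_fix_mod [Finite G] {S R U : Subgroup G} (hS : IsPGroup 2 S) (hU : U ≤ S)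
    (hne : ¬ U ≤ R) (hSU : S ≤ normalizer (U : Set G)) (hSR : S ≤ normalizer (R : Set G)) :
    ∃ w ∈ U, w ∉ R ∧ ∀ s ∈ S, s * w * s⁻¹ * w⁻¹ ∈ R := by
  have hf : Fact (Nat.Prime 2) := ⟨Nat.prime_two⟩
  let A := U ⧸ R.subgroupOf U
  let _ : MulAction S A :=
    { smul := fun s => Quotient.map' (fun x : U => (⟨s * x * (s : G)⁻¹, (mem_normalizer_iff.1 (hSU s.2) x).1 x.2⟩ : U)) (by
        intro x y hxy
        rw [QuotientGroup.leftRel_apply] at hxy ⊢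
        rw [mem_subgroupOf] at hxy ⊢
        change ((s : G) * x * (s : G)⁻¹)⁻¹ * (s * y * (s : G)⁻¹) ∈ R
        have h1 : (x : G)⁻¹ * y ∈ R := hxy
        have h2 := (mem_normalizer_iff.1 (hSR s.2) _).1 h1
        have e1 : ((s : G) * x * (s : G)⁻¹)⁻¹ * (s * y * (s : G)⁻¹) = s * ((x : G)⁻¹ * y) * (s : G)⁻¹ := by group
        rwa [e1])
      one_smul := by
        rintro ⟨x⟩
        change (QuotientGroup.mk _ : A) = QuotientGroup.mk _
        congr 1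
        apply Subtype.ext
        show ((1 : S) : G) * x * ((1 : S) : G)⁻¹ = x
        simp
      mul_smul := by
        rintro s t ⟨x⟩
        change (QuotientGroup.mk _ : A) = QuotientGroup.mk _
        congr 1
        apply Subtype.ext
        show ((s * t : S) : G) * x * ((s * t : S) : G)⁻¹ = s * (t * x * (t : G)⁻¹) * (s : G)⁻¹
        rw [coe_mul]; group }
  have hval : ∀ (s : S) (x : U), s • (QuotientGroup.mk x : A) =
      QuotientGroup.mk (⟨s * x * (s : G)⁻¹, (mem_normalizer_iff.1 (hSU s.2) x).1 x.2⟩ : U) := fun s x => rfl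
  have hcard : 2 ∣ Nat.card A := by
    have hX : IsPGroup 2 U := hS.to_le hU
    obtain ⟨n, hn⟩ := hX.index (R.subgroupOf U)
    change 2 ∣ (R.subgroupOf U).index
    rw [hn]
    have : n ≠ 0 := by
      rintro rfl
      rw [pow_zero] at hn
      exact hne (relIndex_eq_one.1 hn)
    exact dvd_pow_self 2 this
  have h1 : (QuotientGroup.mk 1 : A) ∈ MulAction.fixedPoints S A := fun s => by
    rw [hval, QuotientGroup.eq, mem_subgroupOf]
    have : ((1 : U) : G) = 1 := rfl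
    simp
  obtain ⟨q, hq, hq1⟩ := hS.exists_fixed_point_of_prime_dvd_card_of_fixed_point A hcard h1
  obtain ⟨w, rfl⟩ := QuotientGroup.mk_surjective q
  have hwR : (w : G) ∉ R := by
    intro h0
    apply hq1
    rw [QuotientGroup.eq, mem_subgroupOf]
    simpa using h0
  refine ⟨w, w.2, hwR, fun s hs => ?_⟩
  have h2 := hq ⟨s, hs⟩
  rw [hval, QuotientGroup.eq, mem_subgroupOf] at h2
  have h3 : (s * (w : G) * s⁻¹)⁻¹ * w ∈ R := h2
  have h4 := (mem_normalizer_iff.1 (hSR (hU w.2)) _).1 (inv_mem h3)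
  have e1 : (w : G) * ((s * (w : G) * s⁻¹)⁻¹ * w)⁻¹ * (w : G)⁻¹ = s * w * s⁻¹ * (w : G)⁻¹ := by group
  rwa [e1] at h4

namespace Core

variable {F T : Type*} [Field F] [AddCommGroup T] [Module F T]
  {V R Q X D : Subgroup G} {e : F → T → F → G} {N : T → F} {B : T → T → F}

section card

variable {S : Subgroup G} (h : Core S V R Q X e N B)
include h

theorem card_T : Nat.card T = Nat.card F * Nat.card F := by
  have hf := h.form
  obtain ⟨b, hb, hb0⟩ := hf.exists_ne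
  obtain ⟨c, hc⟩ := hf.B_surj b hb0 1
  rw [← Nat.card_prod]
  symm
  apply Nat.card_congr
  refine Equiv.ofBijective (fun x : F × F => x.1 • b + x.2 • c) ⟨?_, ?_⟩
  · rintro ⟨s, t⟩ ⟨s', t'⟩ hst
    have h1 : s • b + t • c = s' • b + t' • c := hst
    have h2 : B b (s • b + t • c) = B b (s' • b + t' • c) := by rw [h1]
    simp only [hf.B_add', hf.B_smul', hf.B_self, hc, mul_zero, mul_one, zero_add] at h2
    subst h2
    have h3 : s • b = s' • b := add_right_cancel h1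
    have h4 : s = s' := by
      by_contra hne
      have h5 : (s - s') • b = 0 := by rw [sub_smul, h3, sub_self]
      exact hb0 ((smul_eq_zero.1 h5).resolve_left (sub_ne_zero.2 hne))
    rw [h4]
  · intro y
    obtain ⟨s, hs⟩ := hf.B_span b (y + B b y • c) hb0 (by
      rw [hf.B_add', hf.B_smul', hc, mul_one, hf.F2])
    refine ⟨(s, B b y), ?_⟩
    change s • b + B b y • c = y
    rw [← hs, add_assoc, hf.T2, add_zero]

theorem card_E : Nat.card (V ⊓ Q : Subgroup G) = Nat.card F ^ 3 := by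
  have h1 : Nat.card (V ⊓ Q : Subgroup G) = Nat.card (F × T) := by
    symm
    apply Nat.card_congr
    refine Equiv.ofBijective (fun x => (⟨e x.1 x.2 0, h.e_mem _ _ _, h.E_le _ _⟩ : (V ⊓ Q : Subgroup G))) ⟨?_, ?_⟩
    · rintro ⟨a, b⟩ ⟨a', b'⟩ hab
      obtain ⟨h1, h2, -⟩ := h.e_eq (congrArg Subtype.val hab)
      exact Prod.ext h1 h2
    · rintro ⟨x, hx, hxQ⟩
      obtain ⟨a, b, h1⟩ := h.mem_E hx hxQ
      exact ⟨(a, b), Subtype.ext h1⟩
  rw [h1, Nat.card_prod, h.card_T]; ring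

theorem card_V : Nat.card V = Nat.card F ^ 4 := by
  have h1 : Nat.card V = Nat.card (F × T × F) := by
    symm
    apply Nat.card_congr
    refine Equiv.ofBijective (fun x => (⟨e x.1 x.2.1 x.2.2, h.e_mem _ _ _⟩ : V)) ⟨?_, ?_⟩
    · rintro ⟨a, b, d⟩ ⟨a', b', d'⟩ hab
      obtain ⟨h1, h2, h3⟩ := h.e_eq (congrArg Subtype.val hab)
      exact Prod.ext h1 (Prod.ext h2 h3)
    · rintro ⟨x, hx⟩
      obtain ⟨a, b, d, h1⟩ := h.e_surj x hx
      exact ⟨(a, b, d), Subtype.ext h1⟩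
  rw [h1, Nat.card_prod, Nat.card_prod, h.card_T]; ring

/-- (B3), the last part: `V' ≤ V` -/
theorem eq_of_core [Finite G] {V' X' : Subgroup G} {F' T' : Type*} [Field F'] [AddCommGroup T'] [Module F' T']
    {e' : F' → T' → F' → G} {N' : T' → F'} {B' : T' → T' → F'} (h' : Core S V' R Q X' e' N' B')
    (E : Ext S V R Q D e) : V' = V := by
  classical
  have hf := h.form
  have hf' := h'.form
  have hV'S := h'.V_S
  have hV'R := h'.V_cenR
  -- the cardinalities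
  have hcF : Nat.card F' = Nat.card F := by rw [← h'.card_R, ← h.card_R]
  have hcE : Nat.card (V' ⊓ Q : Subgroup G) = Nat.card (V ⊓ Q : Subgroup G) := by
    rw [h'.card_E, h.card_E, hcF]
  have hcV : Nat.card V' = Nat.card V := by rw [h'.card_V, h.card_V, hcF]
  have hQV' : ∀ q ∈ Q, ∀ v ∈ V', q * v * q⁻¹ ∈ V' := fun q hq v hv => h'.V_nor (h'.X_V (h'.Q_X hq)) hv
  have hQV : ∀ q ∈ Q, ∀ v ∈ V, q * v * q⁻¹ ∈ V := fun q hq v hv => h.V_nor (h.X_V (h.Q_X hq)) hv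
  -- elements outside `Q`
  obtain ⟨t, ht, ht1⟩ := h'.exists_two
  have hn : ∀ d : F', d ≠ 0 → e' 0 0 d ∉ Q := fun d hd h0 => hd (h'.V_Q _ _ _ h0)
  -- Step 1: `V' ≤ C(V)`
  have step1 : V' ≤ centralizer (V : Set G) := by
    obtain ⟨v', hv', hv'Q, y, hy, hyV⟩ : ∃ v' ∈ V', v' ∉ Q ∧ ∃ y ∈ Q, v' * y⁻¹ ∈ centralizer (V : Set G) := by
      have m1 := h'.e_mem 0 0 1
      have m2 := h'.e_mem 0 0 t
      rcases h.two _ (hV'S m1) (hV'R m1) _ (hV'S m2) (hV'R m2) with h3 | h3 | h3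
      · exact ⟨_, m1, hn 1 one_ne_zero, h3⟩
      · exact ⟨_, m2, hn t ht, h3⟩
      · refine ⟨_, mul_mem m1 m2, ?_, h3⟩
        rw [← h'.e_add, add_zero, add_zero]
        exact hn _ ht1
    have h1 : ∀ a b, e a b 0 ∈ centralizer (V' : Set G) := by
      intro a b
      apply h'.cenV_of_comm (h.E_le a b) hv' hv'Q
      -- `[e a b 0, v'] ∈ R`
      obtain ⟨c, hc⟩ := h.act y hy
      have h2 : v' * e a b 0 * v'⁻¹ = e (a + B b c) b 0 := by
        have h3 : y * e a b 0 * y⁻¹ = e (a + B b c) b 0 := by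
          rw [hc, mul_zero, add_zero, zero_smul, add_zero]
        have h4 := (mem_centralizer_iff.1 hyV) _ (h.e_mem (a + B b c) b 0)
        calc v' * e a b 0 * v'⁻¹ = (v' * y⁻¹) * (y * e a b 0 * y⁻¹) * (v' * y⁻¹)⁻¹ := by group
          _ = (e (a + B b c) b 0 * (v' * y⁻¹)) * (v' * y⁻¹)⁻¹ := by rw [h3, h4]
          _ = e (a + B b c) b 0 := by group
      have h5 : e a b 0 * v' * (e a b 0)⁻¹ * v'⁻¹ = e a b 0 * (v' * e a b 0 * v'⁻¹) := by
        rw [h.e_inv]; group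
      rw [h5, h2, ← h.e_add]
      have h6 : a + (a + B b c) = B b c := by rw [← add_assoc, hf.F2, zero_add]
      have h7 : b + b = 0 := hf.T2 b
      rw [h6, h7, add_zero]
      exact h.e_R _
    intro v hv
    apply h.cenE v (hV'S hv)
    intro a b
    exact (mem_centralizer_iff.1 (h1 a b)) v hv
  -- Step 2
  have step2a : ∀ v ∈ V', ∀ d ∈ D, v * d * v⁻¹ * d⁻¹ ∈ V := by
    intro v hv d hd
    have h1 : v * d * v⁻¹ * d⁻¹ ∈ D := mul_mem (E.D_nor v (step1 hv) d hd) (inv_mem hd)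
    apply E.D_Q _ h1
    have h2 := h'.quo d (E.D_S hd) (h.cenV_cenR (E.D_V hd)) v hv
    have h3 := inv_mem h2
    have e1 : (d * v * d⁻¹ * v⁻¹)⁻¹ = v * d * v⁻¹ * d⁻¹ := by group
    rwa [e1] at h3
  have step2b : ∀ v ∈ V', ∀ w ∈ Q, w ∈ centralizer (V : Set G) → v * w * v⁻¹ * w⁻¹ ∈ V := by
    intro v' hv' w hw hwV
    obtain ⟨u, hu, d, hd, d', hd', v, hv, rfl⟩ := E.sp w hw hwV
    have c1 := (mem_centralizer_iff.1 (step1 hv')) v hv
    have h1 := step2a v' hv' d hd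
    have h2 : u⁻¹ * v' * u ∈ V' := by
      have := hQV' u⁻¹ (inv_mem hu) v' hv'
      rwa [inv_inv] at this
    have h3 := hQV u hu _ (step2a _ h2 d' hd')
    have h4 := (mem_centralizer_iff.1 (E.D_V hd)) _ h3
    have e1 : v' * (v * d * (u * d' * u⁻¹)) * v'⁻¹ * (v * d * (u * d' * u⁻¹))⁻¹ =
        (v' * v) * d * (u * d' * u⁻¹) * v'⁻¹ * (u * d' * u⁻¹)⁻¹ * d⁻¹ * v⁻¹ := by group
    have e2 : (v * v') * d * (u * d' * u⁻¹) * v'⁻¹ * (u * d' * u⁻¹)⁻¹ * d⁻¹ * v⁻¹ =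
        v * (v' * d * v'⁻¹ * d⁻¹) * (d * (u * (u⁻¹ * v' * u * d' * (u⁻¹ * v' * u)⁻¹ * d'⁻¹) * u⁻¹)) * d⁻¹ * v⁻¹ := by
      group
    rw [e1, ← c1, e2, ← h4]
    have e3 : v * (v' * d * v'⁻¹ * d⁻¹) *
        (u * (u⁻¹ * v' * u * d' * (u⁻¹ * v' * u)⁻¹ * d'⁻¹) * u⁻¹ * d) * d⁻¹ * v⁻¹ =
        v * (v' * d * v'⁻¹ * d⁻¹) * (u * (u⁻¹ * v' * u * d' * (u⁻¹ * v' * u)⁻¹ * d'⁻¹) * u⁻¹) * v⁻¹ := by group
    rw [e3]
    exact mul_mem (mul_mem (mul_mem hv h1) h3) (inv_mem hv)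
  -- if `V ∩ Q = V' ∩ Q` then `C_Q(V)` centralises `V'`
  have step3 : (V ⊓ Q : Subgroup G) = V' ⊓ Q → ∀ w ∈ Q, w ∈ centralizer (V : Set G) → w ∈ centralizer (V' : Set G) := by
    intro hEE w hw hwV
    apply h'.cenV_of_cenE hw
    intro b
    have h1 : e' 0 b 0 ∈ V ⊓ Q := by
      rw [hEE]; exact ⟨h'.e_mem _ _ _, h'.E_le _ _⟩
    exact ((mem_centralizer_iff.1 hwV) _ h1.1).symm
  -- Step 4: `V' ≤ V C_Q(V)`
  have step4 : ∀ l ∈ V', ∃ v ∈ V, ∃ w ∈ Q, w ∈ centralizer (V : Set G) ∧ l = v * w := by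
    intro l hl
    obtain ⟨v, hv, d, hd, w, hw, hwV, rfl⟩ := E.norm l (step1 hl) (step2a l hl) (step2b l hl)
    by_contra hcon
    obtain ⟨s, hs, hbig⟩ := E.big v hv d hd w hw hwV hcon
    set l := v * d * w with hldef
    have hls : s * l * s⁻¹ ∈ V' := h'.V_nor (h'.S_V hs) hl
    have hE : ∀ b, e 0 b 0 ∈ V' := by
      intro b
      obtain ⟨w₁, h1, -, w₂, h2, -, r, hr, h3⟩ := hbig b
      rw [h3]
      exact mul_mem (mul_mem (mul_mem (hQV' w₁ h1 l hl) (inv_mem hl))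
        (mul_mem (hQV' w₂ h2 _ hls) (inv_mem hls))) (h'.R_V hr)
    have hEE : (V ⊓ Q : Subgroup G) = V' ⊓ Q := by
      apply Subgroup.eq_of_le_of_card_ge _ hcE.le
      rintro x ⟨hx, hxQ⟩
      refine ⟨?_, hxQ⟩
      obtain ⟨a, b, rfl⟩ := h.mem_E hx hxQ
      have h1 : e a b 0 = e a 0 0 * e 0 b 0 := by rw [← h.e_add, add_zero, zero_add, add_zero]
      rw [h1]
      exact mul_mem (h'.R_V (h.e_R a)) (hE b)
    have hc := step3 hEE
    obtain ⟨b, -, hb⟩ := hf.exists_ne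
    obtain ⟨w₁, h1, h1V, w₂, h2, h2V, r, hr, h3⟩ := hbig b
    have c1 := (mem_centralizer_iff.1 (hc w₁ h1 h1V)) l hl
    have c2 := (mem_centralizer_iff.1 (hc w₂ h2 h2V)) _ hls
    rw [← c1, ← c2, mul_inv_cancel_right, mul_inv_cancel, mul_inv_cancel_right, mul_inv_cancel, one_mul, one_mul] at h3
    rw [← h3] at hr
    exact hb (h.of_mem_R hr).1
  -- Step 5: `V' ∩ Q = V ∩ Q`
  have hEE : (V ⊓ Q : Subgroup G) = V' ⊓ Q := by
    symm
    apply Subgroup.eq_of_le_of_card_ge _ hcE.ge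
    obtain ⟨v, hv, w, hw, hwV, hvw⟩ := step4 _ (h'.e_mem 0 0 1)
    rintro x ⟨hx, hxQ⟩
    refine ⟨?_, hxQ⟩
    obtain ⟨a, c, rfl⟩ := h'.mem_E hx hxQ
    obtain ⟨q, hq, hqa⟩ := h'.act_surj c
    have h1 : e' a c 0 = q * e' 0 0 1 * q⁻¹ * (e' 0 0 1)⁻¹ * e' (a + N' c) 0 0 := by
      rw [hqa, h'.e_inv, ← h'.e_add, ← h'.e_add]
      have e2 : 0 + B' 0 c + N' c * 1 + 0 + (a + N' c) = a := by
        rw [hf'.zero_B]
        linear_combination hf'.F2 (N' c)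
      have e3 : 0 + (1 : F') • c + 0 + 0 = c := by rw [one_smul]; simp
      have e4 : 1 + 1 + (0 : F') = 0 := by rw [hf'.F2]; simp
      rw [e2, e3, e4]
    rw [h1, hvw]
    have h2 : q * (v * w) * q⁻¹ * (v * w)⁻¹ = (q * v * q⁻¹ * v⁻¹) * (v * (q * w * q⁻¹ * w⁻¹) * v⁻¹) := by group
    rw [h2]
    have h3 : q * v * q⁻¹ * v⁻¹ ∈ V := mul_mem (hQV q hq v hv) (inv_mem hv)
    have h4 : v * (q * w * q⁻¹ * w⁻¹) * v⁻¹ ∈ V := mul_mem (mul_mem hv (h.R_V (h.QQ q hq w hw))) (inv_mem hv)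
    have h5 : q * v * q⁻¹ * v⁻¹ * (v * (q * w * q⁻¹ * w⁻¹) * v⁻¹) * e' (a + N' c) 0 0 ∈ V :=
      mul_mem (mul_mem h3 h4) (h.R_V (h'.e_R _))
    exact h5
  have hc := step3 hEE
  -- `V' ≤ V`
  apply Subgroup.eq_of_le_of_card_ge _ hcV.ge
  intro l hl
  obtain ⟨v, hv, w, hw, hwV, rfl⟩ := step4 l hl
  have h1 : w ∈ V := by
    apply E.cc w hw
    intro y hy hyV
    have c1 := (mem_centralizer_iff.1 (hc y hy hyV)) _ hl
    have c2 := (mem_centralizer_iff.1 hyV) v hv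
    calc y * w = v⁻¹ * (v * y) * w := by group
      _ = v⁻¹ * (y * v) * w := by rw [c2]
      _ = v⁻¹ * (y * (v * w)) := by group
      _ = v⁻¹ * ((v * w) * y) := by rw [c1]
      _ = w * y := by group
  exact mul_mem hv h1

end card

section sylow

variable [Finite G] (S : Sylow 2 G) (h : Core (S : Subgroup G) V R Q X e N B) (hG : IsCharacteristicTwoType G)
  (hZ : zc (S : Subgroup G) ≠ ⊥) (E : Ext (S : Subgroup G) V R Q D e)
include h hG hZ E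

/-- **(B2)** `V_P ≤ Q` implies `V_P ≤ R`. -/
theorem zl_le_R {P : Subgroup G} (hP : IsParS (S : Subgroup G) P) (hUQ : zl (S : Subgroup G) P ≤ Q) :
    zl (S : Subgroup G) P ≤ R := by
  classical
  by_contra hUR
  have hf := h.form
  set U := zl (S : Subgroup G) P with hU
  have hQS : Q ≤ (S : Subgroup G) := h.Q_S fun U hU hSU => le_of_le_normalizer S hU hSU
  have hQP : Q ≤ P := hQS.trans hP.le
  have hUP : ∀ g ∈ P, ∀ u ∈ U, g * u * g⁻¹ ∈ U := fun g hg u hu =>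
    (mem_normalizer_iff.1 (le_normalizer_zl _ _ hg) u).1 hu
  have hUP' : ∀ g ∈ P, ∀ u ∈ U, g⁻¹ * u * g ∈ U := fun g hg u hu => by
    have := hUP g⁻¹ (inv_mem hg) u hu
    rwa [inv_inv] at this
  have hSU : (S : Subgroup G) ≤ normalizer (U : Set G) := hP.le.trans (le_normalizer_zl _ _)
  have hUc : ∀ x ∈ U, ∀ y ∈ U, x * y = y * x := by
    intro x hx y hy
    exact zc_comm _ _ (hP.isLoc.zl_le S hG hx) _ (hP.isLoc.zl_le S hG hy)
  -- `R ≤ U`
  have hRU : R ≤ U := by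
    obtain ⟨w, hw, hwR⟩ := SetLike.not_le_iff_exists.1 hUR
    intro r hr
    obtain ⟨n, hn, h1⟩ := h.semi w (hUQ hw) hwR r hr
    rw [← h1]
    exact mul_mem (hUP n (hQP hn) w hw) (inv_mem hw)
  -- `U` is the union of the `cj g R`
  have hcov : ∀ u ∈ U, ∃ g ∈ P, u ∈ cj g R := by
    let T' : Subgroup G :=
      { carrier := {u | u ∈ U ∧ ∃ g ∈ P, u ∈ cj g R}
        one_mem' := ⟨one_mem _, 1, one_mem _, one_mem _⟩
        inv_mem' := by
          rintro u ⟨hu, g, hg, hug⟩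
          exact ⟨inv_mem hu, g, hg, inv_mem hug⟩
        mul_mem' := by
          rintro a b ⟨ha, g, hg, hag⟩ ⟨hb, k, hk, hbk⟩
          refine ⟨mul_mem ha hb, ?_⟩
          -- conjugate by `g⁻¹`
          have ha' : g⁻¹ * a * g ∈ R := mem_cj.1 hag
          have hb' : g⁻¹ * b * g ∈ U := hUP' g hg b hb
          by_cases hbR : g⁻¹ * b * g ∈ R
          · refine ⟨g, hg, mem_cj.2 ?_⟩
            have e1 : g⁻¹ * (a * b) * g = g⁻¹ * a * g * (g⁻¹ * b * g) := by group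
            rw [e1]; exact mul_mem ha' hbR
          · obtain ⟨n, hn, h1⟩ := h.semi _ (hUQ hb') hbR _ ha'
            refine ⟨g * n * g⁻¹ * k, mul_mem (mul_mem (mul_mem hg (hQP hn)) (inv_mem hg)) hk, mem_cj.2 ?_⟩
            have e1 : (g * n * g⁻¹ * k)⁻¹ * (a * b) * (g * n * g⁻¹ * k) = k⁻¹ * b * k := by
              have e2 : a * b = g * (g⁻¹ * a * g * (g⁻¹ * b * g)) * g⁻¹ := by group
              rw [e2, ← h1]; group
            rw [e1]; exact mem_cj.1 hbk }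
    have h1 : U ≤ T' := by
      apply zl_le
      · intro z hz
        refine ⟨zc_le_zl _ _ hz, 1, one_mem _, mem_cj.2 ?_⟩
        rw [inv_one, one_mul, mul_one]
        exact h.Z_R hz
      · intro p hp
        apply mem_norm_of
        · rintro u ⟨hu, g, hg, hug⟩
          refine ⟨hUP p hp u hu, p * g, mul_mem hp hg, mem_cj.2 ?_⟩
          have e1 : (p * g)⁻¹ * (p * u * p⁻¹) * (p * g) = g⁻¹ * u * g := by group
          rw [e1]; exact mem_cj.1 hug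
        · rintro u ⟨hu, g, hg, hug⟩
          refine ⟨hUP' p hp u hu, p⁻¹ * g, mul_mem (inv_mem hp) hg, mem_cj.2 ?_⟩
          have e1 : (p⁻¹ * g)⁻¹ * (p⁻¹ * u * p) * (p⁻¹ * g) = g⁻¹ * u * g := by group
          rw [e1]; exact mem_cj.1 hug
    exact fun u hu => (h1 hu).2
  -- `w ∈ U ∩ V - R`
  obtain ⟨w, hw, hwR, hws⟩ := exists_fix_mod S.isPGroup' (hUQ.trans hQS) hUR hSU h.S_R
  have hwQ := hUQ hw
  have hwV : w ∈ centralizer (V : Set G) := by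
    apply h.cenV_of_comm hwQ (h.e_mem 0 0 1) h.exists_not_Q
    have h1 := inv_mem (hws _ (h.V_S (h.e_mem 0 0 1)))
    have e1 : (e 0 0 1 * w * (e 0 0 1)⁻¹ * w⁻¹)⁻¹ = w * e 0 0 1 * w⁻¹ * (e 0 0 1)⁻¹ := by group
    rwa [e1] at h1
  have hwD : ∀ d ∈ D, w * d = d * w := by
    intro d hd
    have h1 : w * d * w⁻¹ * d⁻¹ ∈ D := mul_mem (E.D_nor w hwV d hd) (inv_mem hd)
    have h2 : w * d * w⁻¹ * d⁻¹ ∈ R := by
      have h3 := inv_mem (hws d (E.D_S hd))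
      have e1 : (d * w * d⁻¹ * w⁻¹)⁻¹ = w * d * w⁻¹ * d⁻¹ := by group
      rwa [e1] at h3
    have h3 := E.D_R _ h1 h2
    calc w * d = (w * d * w⁻¹ * d⁻¹) * (d * w) := by group
      _ = d * w := by rw [h3, one_mul]
  have hwv : w ∈ V := by
    apply E.cc w hwQ
    intro y hy hyV
    obtain ⟨u, hu, d, hd, d', hd', v, hv, rfl⟩ := E.sp y hy hyV
    have c1 := (mem_centralizer_iff.1 hwV) v hv
    have c2 := hwD d hd
    -- `w^u ∈ w R`
    have h1 : u⁻¹ * w * u * w⁻¹ ∈ R := by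
      have := h.QQ u⁻¹ (inv_mem hu) w hwQ
      rwa [inv_inv] at this
    have c3 : u⁻¹ * w * u * d' = d' * (u⁻¹ * w * u) := by
      have c4 := (mem_centralizer_iff.1 (E.D_V hd')) _ (h.R_V h1)
      have c5 := hwD d' hd'
      calc u⁻¹ * w * u * d' = (u⁻¹ * w * u * w⁻¹) * (w * d') := by group
        _ = (u⁻¹ * w * u * w⁻¹) * (d' * w) := by rw [c5]
        _ = ((u⁻¹ * w * u * w⁻¹) * d') * w := by group
        _ = (d' * (u⁻¹ * w * u * w⁻¹)) * w := by rw [c4]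
        _ = d' * (u⁻¹ * w * u) := by group
    have c6 : w * (u * d' * u⁻¹) = (u * d' * u⁻¹) * w := by
      calc w * (u * d' * u⁻¹) = u * (u⁻¹ * w * u * d') * u⁻¹ := by group
        _ = u * (d' * (u⁻¹ * w * u)) * u⁻¹ := by rw [c3]
        _ = (u * d' * u⁻¹) * w := by group
    calc v * d * (u * d' * u⁻¹) * w = v * d * ((u * d' * u⁻¹) * w) := by group
      _ = v * (d * w) * (u * d' * u⁻¹) := by rw [← c6]; group
      _ = (v * w) * d * (u * d' * u⁻¹) := by rw [← c2]; group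
      _ = w * (v * d * (u * d' * u⁻¹)) := by rw [c1]; group
  obtain ⟨a, b, rfl⟩ := h.mem_E hwv hwQ
  have hb0 : b ≠ 0 := by
    rintro rfl
    exact hwR (h.e_R a)
  -- a nonsingular vector in `U ∩ V ∩ Q`
  obtain ⟨a₁, b₁, hb₁, hx₁⟩ : ∃ a b, N b ≠ 0 ∧ e a b 0 ∈ U := by
    rcases h.ns b hb0 with h1 | ⟨s, hs, h1⟩
    · exact ⟨a, b, h1, hw⟩
    · obtain ⟨a', b', h2, h3⟩ := h1 a
      refine ⟨a + a', b + b', h3, ?_⟩
      have h4 : e (a + a') (b + b') 0 = e a b 0 * e a' b' 0 := by rw [← h.e_add, add_zero]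
      rw [h4, ← h2]
      exact mul_mem hw (hUP s (hP.le hs) _ hw)
  -- `(0, b, 0) ∈ U`
  have hx₀ : e 0 b₁ 0 ∈ U := by
    obtain ⟨c, hc⟩ := hf.B_surj b₁ (hf.ne_zero_of_N hb₁) a₁
    obtain ⟨q, hq, hqa⟩ := h.act_surj c
    have h1 := hUP q (hQP hq) _ hx₁
    rwa [hqa, hc, mul_zero, add_zero, hf.F2, zero_smul, add_zero] at h1
  have hx1 : e 0 b₁ 0 ≠ 1 := fun h0 => hf.ne_zero_of_N hb₁ (h.e_inj _ _ _ h0).2.1
  obtain ⟨g, hg, hxg⟩ := hcov _ hx₀
  -- `R_x ≤ U`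
  have hRxU : ∀ r ∈ cj g R, r ∈ U := by
    intro r hr
    have h1 := hUP g hg _ (hRU (mem_cj.1 hr))
    have e1 : g * (g⁻¹ * r * g) * g⁻¹ = r := by group
    rwa [e1] at h1
  have hdis : ∀ r ∈ R, r ∈ cj g R → r = 1 := by
    intro r hr hrg
    by_contra hr1
    have h1 := (h.cj_eq S hG hZ hr hr1 hrg _).1 hxg
    exact hf.ne_zero_of_N hb₁ (h.of_mem_R h1).1
  have hRxV : cj g R ≤ V := by
    intro r hr
    apply E.cc r (hUQ (hRxU r hr))
    intro y hy hyV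
    have c1 := ((mem_centralizer_iff.1 hyV) _ (h.e_mem 0 b₁ 0)).symm
    have h1 := h.cen_cj_R S hG hZ hxg hx1 c1 hr
    have h2 : y * r * y⁻¹ * r⁻¹ ∈ cj g R := mul_mem h1 (inv_mem hr)
    have h3 := hdis _ (h.QQ y hy r (hUQ (hRxU r hr))) h2
    calc y * r = (y * r * y⁻¹ * r⁻¹) * (r * y) := by group
      _ = r * y := by rw [h3, one_mul]
  refine h.lemW S hG hZ hb₁ (h.line_of S hG hZ hb₁ hRxV hxg) ?_
  intro r hr
  exact mem_cj.2 (hUQ (hUP' g hg r (hRU hr)))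

/-- **THEOREM ALL-N1**: every `P ∈ P(S)` lies in `N_G(R)` or in `N_G(V)`. -/
theorem par_le (hty : ∀ P : Subgroup G, IsParS (S : Subgroup G) P →
      ¬ zl (S : Subgroup G) P ≤ o2 (CZ (S : Subgroup G)) →
      ∃ (F' T' : Type) (_ : Field F') (_ : AddCommGroup T') (_ : Module F' T') (R' Q' X' : Subgroup G)
        (e' : F' → T' → F' → G) (N' : T' → F') (B' : T' → T' → F'),
        Core (S : Subgroup G) (zl (S : Subgroup G) P) R' Q' X' e' N' B')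
    {P : Subgroup G} (hP : IsPar (S : Subgroup G) P) :
    P ≤ normalizer (R : Set G) ∨ P ≤ normalizer (V : Set G) := by
  by_cases hstar : P ≤ normalizer (zc (S : Subgroup G) : Set G)
  · exact Or.inl (hstar.trans (h.normalizer_zc_le S hG hZ))
  have hPs : IsParS (S : Subgroup G) P := ⟨hP, hstar⟩
  have hCZ := h.o2_CZ S hG hZ
  obtain ⟨z, hz1⟩ := Subgroup.ne_bot_iff_exists_ne_one.1 hZ
  have hz1' : (z : G) ≠ 1 := fun h0 => hz1 (Subtype.ext h0)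
  by_cases hUQ : zl (S : Subgroup G) P ≤ Q
  · left
    have hUR := h.zl_le_R S hG hZ E hPs hUQ
    intro p hp
    apply h.ti S hG hZ (h.Z_R z.2) hz1'
    exact hUR ((mem_normalizer_iff.1 (le_normalizer_zl _ _ hp) _).1 (zc_le_zl _ _ z.2))
  · right
    obtain ⟨F', T', _, _, _, R', Q', X', e', N', B', h'⟩ := hty P hPs (by rwa [hCZ])
    have hQ : Q' = Q := by
      rw [← h'.o2_eq_zc S hG z.2 hz1', ← h.o2_eq_zc S hG z.2 hz1']
    subst hQ
    have hR : R' = R := by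
      apply le_antisymm
      · intro r hr
        apply h.mem_R_of_cen (h'.R_Q hr)
        intro y hy
        exact ((mem_centralizer_iff.1 (h'.Q_cen hy)) r hr).symm
      · intro r hr
        apply h'.mem_R_of_cen (h.R_Q hr)
        intro y hy
        exact ((mem_centralizer_iff.1 (h.Q_cen hy)) r hr).symm
    subst hR
    have h1 := h.eq_of_core h' E
    rw [← h1]
    exact le_normalizer_zl _ _

end sylow

end Core

end Cfsg.Agent.Omega.All.NOne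

end

section


/-!
# THEOREM ALL-N1: the two-point data give `Ext`

* `Pair.big` : for `l ∈ V D D₀ - V D₀` there is `s ∈ S` with `E ≤ [D₀, l] [D₀, l^s] R`;
* `Pair.ext` : `Ext S V R Q (C(V) ∩ Q') e`.
-/

set_option autoImplicit false
set_option linter.unusedSectionVars false
set_option linter.unusedVariables false

namespace Cfsg.Agent.Omega.All.NOne

open Subgroup Cfsg Cfsg.Agent.ZN Cfsg.Agent.Omega.MinPar
open Cfsg.Agent.MinSimple.VModule (le_normalizer_o2 o2_isPGroup le_o2)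

universe u

variable {G : Type u} [Group G] {F T : Type*} [Field F] [AddCommGroup T] [Module F T]

namespace Pair

variable {S V R Q R' Q' : Subgroup G} {e : F → T → F → G} {N : T → F} {B : T → T → F}
  (h : Pair S V R Q R' Q' e N B)
include h

section com

variable {v d w : G} (hv : v ∈ V) (hd : d ∈ Q') (hdV : d ∈ centralizer (V : Set G)) (hw : w ∈ Q)
  (hwV : w ∈ centralizer (V : Set G))
include hv hd hdV hw hwV

/-- `[y, v d w] = [y, d] [y, w]` -/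
theorem com_l [Finite G] {y : G} (hy : y ∈ Q) (hyV : y ∈ centralizer (V : Set G)) :
    y * d * y⁻¹ * d⁻¹ ∈ V ∧
      y * (v * d * w) * y⁻¹ * (v * d * w)⁻¹ = (y * d * y⁻¹ * d⁻¹) * (y * w * y⁻¹ * w⁻¹) := by
  have hε : y * d * y⁻¹ * d⁻¹ ∈ V := by
    apply h.meet
    exact mem_inf.2 ⟨(h.com_mem2 hdV hy).1, (h.com_mem' hyV hd).1⟩
  refine ⟨hε, ?_⟩
  have hρ := h.R_V (h.QQ y hy w hw)
  set ε := y * d * y⁻¹ * d⁻¹ with hεd
  set ρ := y * w * y⁻¹ * w⁻¹ with hρd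
  have h1 := h.V_Cn hyV hv
  have h2 := h.V_Cn (mul_mem (h.V_cen hv) (one_mem _)) hε
  have h3 := h.V_Cn (mul_mem (mul_mem (h.V_cen hv) (h.V_cen hε)) hdV) hρ
  calc y * (v * d * w) * y⁻¹ * (v * d * w)⁻¹ = (y * v * y⁻¹) * ε * d * ρ * (v * d)⁻¹ := by
        rw [hεd, hρd]; group
    _ = (v * ε * d * ρ * (v * ε * d)⁻¹) * (v * 1 * ε * (v * 1)⁻¹) := by rw [h1]; group
    _ = ρ * ε := by rw [h3, h2]
    _ = ε * ρ := h.V_comm hρ hε

end com

theorem big [Finite G] {v d w : G} (hv : v ∈ V) (hd : d ∈ Q') (hdV : d ∈ centralizer (V : Set G)) (hw : w ∈ Q)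
    (hwV : w ∈ centralizer (V : Set G))
    (hl : ¬ ∃ v' ∈ V, ∃ w' ∈ Q, w' ∈ centralizer (V : Set G) ∧ v * d * w = v' * w') :
    ∃ s ∈ S, ∀ b, ∃ w₁ ∈ Q, w₁ ∈ centralizer (V : Set G) ∧ ∃ w₂ ∈ Q, w₂ ∈ centralizer (V : Set G) ∧
      ∃ r ∈ R, e 0 b 0 = w₁ * (v * d * w) * w₁⁻¹ * (v * d * w)⁻¹ *
        (w₂ * (s * (v * d * w) * s⁻¹) * w₂⁻¹ * (s * (v * d * w) * s⁻¹)⁻¹) * r := by
  have hf := h.form
  have hdn : d ∉ V := fun h0 => hl ⟨v * d, mul_mem hv h0, w, hw, hwV, rfl⟩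
  obtain ⟨χ, hχ, hn⟩ := h.exists_chi
  set l := v * d * w with hld
  have hlV : l ∈ centralizer (V : Set G) := mul_mem (mul_mem (h.V_cen hv) hdV) hwV
  have hcom : ∀ y ∈ Q, y ∈ centralizer (V : Set G) → y * d * y⁻¹ * d⁻¹ ∈ V ∧ y * l * y⁻¹ * l⁻¹ ∈ V ∧
      y * l * y⁻¹ * l⁻¹ ∈ Q ∧ ∃ r ∈ R, y * d * y⁻¹ * d⁻¹ = y * l * y⁻¹ * l⁻¹ * r := by
    intro y hy hyV
    obtain ⟨h1, h2⟩ := h.com_l hv hd hdV hw hwV hy hyV
    have h3 := h.QQ y hy w hw
    refine ⟨h1, ?_, (h.com_mem2 hlV hy).1, (y * w * y⁻¹ * w⁻¹)⁻¹, inv_mem h3, ?_⟩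
    · rw [hld, h2]; exact mul_mem h1 (h.R_V h3)
    · rw [hld, h2, mul_inv_cancel_right]
  have hcmul : ∀ y ∈ Q, y ∈ centralizer (V : Set G) → ∀ y' ∈ Q, y' ∈ centralizer (V : Set G) →
      (y * y') * l * (y * y')⁻¹ * l⁻¹ = (y * l * y⁻¹ * l⁻¹) * (y' * l * y'⁻¹ * l⁻¹) := by
    intro y hy hyV y' hy' hyV'
    obtain ⟨-, h1, -, -⟩ := hcom y hy hyV
    obtain ⟨-, h2, -, -⟩ := hcom y' hy' hyV'
    have h3 := h.V_Cn hyV h2
    calc (y * y') * l * (y * y')⁻¹ * l⁻¹ = (y * (y' * l * y'⁻¹ * l⁻¹) * y⁻¹) * (y * l * y⁻¹ * l⁻¹) := by group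
      _ = _ := by rw [h3, h.V_comm h2 h1]
  -- the subgroup `I = [D₀, l] R`
  let I : Subgroup G :=
    { carrier := {x | ∃ y ∈ Q, y ∈ centralizer (V : Set G) ∧ ∃ r ∈ R, x = y * l * y⁻¹ * l⁻¹ * r}
      one_mem' := ⟨1, one_mem _, one_mem _, 1, one_mem _, by group⟩
      mul_mem' := by
        rintro _ _ ⟨y, hy, hyV, r, hr, rfl⟩ ⟨y', hy', hyV', r', hr', rfl⟩
        refine ⟨y * y', mul_mem hy hy', mul_mem hyV hyV', r * r', mul_mem hr hr', ?_⟩
        rw [hcmul y hy hyV y' hy' hyV']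
        obtain ⟨-, h2, -, -⟩ := hcom y' hy' hyV'
        have h3 := h.V_comm (h.R_V hr) h2
        calc y * l * y⁻¹ * l⁻¹ * r * (y' * l * y'⁻¹ * l⁻¹ * r') =
            y * l * y⁻¹ * l⁻¹ * (r * (y' * l * y'⁻¹ * l⁻¹)) * r' := by group
          _ = _ := by rw [h3]; group
      inv_mem' := by
        rintro _ ⟨y, hy, hyV, r, hr, rfl⟩
        refine ⟨y⁻¹, inv_mem hy, inv_mem hyV, r⁻¹, inv_mem hr, ?_⟩
        have h1 := hcmul y⁻¹ (inv_mem hy) (inv_mem hyV) y hy hyV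
        have h2 : y⁻¹ * y * l * (y⁻¹ * y)⁻¹ * l⁻¹ = 1 := by group
        rw [h2] at h1
        have h3 : y⁻¹ * l * y⁻¹⁻¹ * l⁻¹ = (y * l * y⁻¹ * l⁻¹)⁻¹ := (inv_eq_of_mul_eq_one_left h1.symm).symm
        obtain ⟨-, h4, -, -⟩ := hcom y hy hyV
        rw [h3, mul_inv_rev, h.V_comm (inv_mem (h.R_V hr)) (inv_mem h4)] }
  have hRI : R ≤ I := fun r hr => ⟨1, one_mem _, one_mem _, r, hr, by group⟩
  have hIE : I ≤ V ⊓ Q := by
    rintro _ ⟨y, hy, hyV, r, hr, rfl⟩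
    obtain ⟨-, h1, h2, -⟩ := hcom y hy hyV
    exact mem_inf.2 ⟨mul_mem h1 (h.R_V hr), mul_mem h2 (h.R_Q hr)⟩
  -- the annihilator
  let A : AddSubgroup T :=
    { carrier := {c | ∃ x ∈ Q, IsU e N B x c ∧ d * x * d⁻¹ * x⁻¹ ∈ V}
      zero_mem' := ⟨1, one_mem _, h.isU_one_of_cen (one_mem _), by
        have : d * 1 * d⁻¹ * 1⁻¹ = 1 := by group
        rw [this]; exact one_mem _⟩
      add_mem' := by
        rintro _ _ ⟨x, hx, hxc, h1⟩ ⟨x', hx', hxc', h2⟩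
        refine ⟨x * x', mul_mem hx hx', h.isU_mul hxc hxc', ?_⟩
        have e1 : d * (x * x') * d⁻¹ * (x * x')⁻¹ = (d * x * d⁻¹ * x⁻¹) * (x * (d * x' * d⁻¹ * x'⁻¹) * x⁻¹) := by
          group
        rw [e1]
        exact mul_mem h1 ((mem_normalizer_iff.1 (h.Q_V hx) _).1 h2)
      neg_mem' := by
        rintro c hc
        rwa [hf.neg_T] }
  have hA : ∀ c ∈ A, N c = 0 := by
    rintro c ⟨x, hx, hxc, h1⟩
    by_contra hc
    apply hdn
    apply h.al_inj hc hx hxc hd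
    have e1 : x * d * x⁻¹ * d⁻¹ = (d * x * d⁻¹ * x⁻¹)⁻¹ := by group
    rw [e1]; exact inv_mem h1
  -- the key
  have key : ∀ i : T, (∀ c ∈ A, B i c = 0) → e 0 i 0 ∈ I := by
    intro i hi
    by_contra hiI
    obtain ⟨g, hg1, hg2, hg3⟩ := exists_sep (E := V ⊓ Q) (I := I)
      (fun a ha b hb => h.V_comm (mem_inf.1 ha).1 (mem_inf.1 hb).1) (fun a ha => h.V_sq (mem_inf.1 ha).1) hIE
      (x := e 0 i 0) (mem_inf.2 ⟨h.e_mem _ _ _, h.E_le _ _⟩) hiI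
    obtain ⟨x, hx, hxg⟩ := h.rep hχ hn g hg1 (fun a ha => hg2 a (hRI ha))
    obtain ⟨c, hxc⟩ := h.act x hx
    obtain ⟨hzQ, hzV⟩ := h.com_mem hdV hx
    have hcA : c ∈ A := by
      refine ⟨x, hx, hxc, ?_⟩
      apply h.cchi hχ hn hzQ
      intro y hy hyV
      obtain ⟨h1, -, -, r, hr, h2⟩ := hcom y hy hyV
      set ε := y * d * y⁻¹ * d⁻¹ with hε
      have hεI : ε ∈ I := ⟨y, hy, hyV, r, hr, h2⟩
      have hεE : ε ∈ V ⊓ Q := hIE hεI
      have h3 : d⁻¹ * y * d = y * ε := by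
        have h4 := h.V_Cn (inv_mem hdV) h1
        have h5 := VC hyV h1
        calc d⁻¹ * y * d = d⁻¹ * (ε * d * y) := by rw [hε]; group
          _ = (d⁻¹ * ε * d⁻¹⁻¹) * y := by group
          _ = y * ε := by rw [h4, h5]
      set z := d * x * d⁻¹ * x⁻¹ with hz
      have h4 : z * x * y * (z * x)⁻¹ * y⁻¹ = x * (y * ε) * x⁻¹ * (y * ε)⁻¹ := by
        have h5 : x * (y * ε) * x⁻¹ * (y * ε)⁻¹ ∈ R := h.QQ x hx _ (mul_mem hy (mem_inf.1 hεE).2)
        have h6 := h.V_Cn hdV (h.R_V h5)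
        calc z * x * y * (z * x)⁻¹ * y⁻¹ = d * (x * (d⁻¹ * y * d) * x⁻¹ * (d⁻¹ * y * d)⁻¹) * d⁻¹ := by
              rw [hz]; group
          _ = _ := by rw [h3, h6]
      have h5 := h.chi_mul_left hχ hzQ hx hy
      rw [h4, h.chi_mul hχ hx hy (mem_inf.1 hεE).2, hxg ε hεE, hg2 ε hεI, mul_one] at h5
      exact right_eq_mul.1 h5
    have h1 := hi c hcA
    have h2 := hxg (e 0 i 0) (mem_inf.2 ⟨h.e_mem _ _ _, h.E_le _ _⟩)
    rw [hg3] at h2
    have h3 : x * e 0 i 0 * x⁻¹ * (e 0 i 0)⁻¹ = 1 := by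
      rw [hxc, h1, h.e_inv, ← h.e_add]
      simp only [mul_zero, add_zero, zero_smul, hf.T2]
      exact h.e_zero
    rw [h3, h.chi_one hχ] at h2
    exact absurd h2 (by decide)
  obtain ⟨s, hs, hsep⟩ := h.sep A hA
  refine ⟨s, hs, fun b => ?_⟩
  obtain ⟨a, i, i', hi, hi', hb⟩ := hsep b
  obtain ⟨w₁, hw₁, hw₁V, r₁, hr₁, h1⟩ := key i hi
  obtain ⟨w₂, hw₂, hw₂V, r₂, hr₂, h2⟩ := key i' hi'
  have hsV := h.S_V hs
  have hsR := h.S_R hs
  have hr₃ : s * r₂ * s⁻¹ ∈ R := (mem_normalizer_iff.1 hsR _).1 hr₂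
  refine ⟨w₁, hw₁, hw₁V, s * w₂ * s⁻¹, (mem_normalizer_iff.1 (h.nor_Q hsR) _).1 hw₂, h.CV hsV hw₂V,
    e a 0 0 * r₁ * (s * r₂ * s⁻¹), mul_mem (mul_mem (h.e_R a) hr₁) hr₃, ?_⟩
  have h3 : s * w₂ * s⁻¹ * (s * l * s⁻¹) * (s * w₂ * s⁻¹)⁻¹ * (s * l * s⁻¹)⁻¹ =
    s * (w₂ * l * w₂⁻¹ * l⁻¹) * s⁻¹ := by group
  obtain ⟨-, h4, -, -⟩ := hcom w₁ hw₁ hw₁V
  obtain ⟨-, h5, -, -⟩ := hcom w₂ hw₂ hw₂V
  have h6 : s * (w₂ * l * w₂⁻¹ * l⁻¹) * s⁻¹ ∈ V := (mem_normalizer_iff.1 hsV _).1 h5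
  rw [hb, h1, h2, h3]
  have h7 := h.V_comm (mul_mem (h.R_V (h.e_R a)) (one_mem _)) (mul_mem h4 h6)
  have h8 := h.V_comm (h.R_V hr₁) h6
  set p := w₁ * l * w₁⁻¹ * l⁻¹ with hp
  set q := s * (w₂ * l * w₂⁻¹ * l⁻¹) * s⁻¹ with hq
  have h9 : s * (w₂ * l * w₂⁻¹ * l⁻¹ * r₂) * s⁻¹ = q * (s * r₂ * s⁻¹) := by rw [hq]; group
  rw [h9]
  calc e a 0 0 * (p * r₁) * (q * (s * r₂ * s⁻¹)) = e a 0 0 * 1 * p * (r₁ * q) * (s * r₂ * s⁻¹) := by group
    _ = (e a 0 0 * 1 * (p * q)) * (r₁ * (s * r₂ * s⁻¹)) := by rw [h8]; group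
    _ = p * q * (e a 0 0 * r₁ * (s * r₂ * s⁻¹)) := by rw [h7]; group

end Pair

/-- **the two-point data give `Ext`** -/
theorem Pair.ext [Finite G] (S : Sylow 2 G) {V R Q R' Q' : Subgroup G} {e : F → T → F → G} {N : T → F}
    {B : T → T → F} (h : Pair (S : Subgroup G) V R Q R' Q' e N B) :
    Ext (S : Subgroup G) V R Q (centralizer (V : Set G) ⊓ Q') e where
  D_V := inf_le_left
  D_S := by
    have h1 : centralizer (V : Set G) ⊓ Q' ≤ o2 (centralizer (V : Set G)) := by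
      apply le_o2 inf_le_left
      · have h2 : IsPGroup 2 Q' := by rw [h.Q'_eq]; exact o2_isPGroup _
        exact h2.to_le inf_le_right
      · intro c hc
        apply mem_norm_of
        · intro x hx
          exact mem_inf.2 ⟨mul_mem (mul_mem hc (mem_inf.1 hx).1) (inv_mem hc), h.CQ' hc (mem_inf.1 hx).2⟩
        · intro x hx
          have h3 := h.CQ' (inv_mem hc) (mem_inf.1 hx).2
          rw [inv_inv] at h3
          exact mem_inf.2 ⟨mul_mem (mul_mem (inv_mem hc) (mem_inf.1 hx).1) hc, h3⟩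
    refine h1.trans (le_of_le_normalizer S (o2_isPGroup _) ?_)
    intro s hs
    have hsV := h.S_V hs
    have h4 : ∀ s ∈ normalizer (V : Set G), ∀ x ∈ o2 (centralizer (V : Set G)), s * x * s⁻¹ ∈ o2 (centralizer (V : Set G)) := by
      intro s hs x hx
      have h5 : cj s (centralizer (V : Set G)) = centralizer (V : Set G) := by
        ext y
        rw [mem_cj]
        constructor
        · intro hy
          have := h.CV hs hy
          have e1 : s * (s⁻¹ * y * s) * s⁻¹ = y := by group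
          rwa [e1] at this
        · intro hy
          have := h.CV (inv_mem hs) hy
          rwa [inv_inv] at this
      have h6 := Pair.cj_o2 s (centralizer (V : Set G))
      rw [h5] at h6
      rw [← h6]
      exact conj_mem_cj hx
    exact mem_norm_of (h4 s hsV) fun x hx => by
      have := h4 s⁻¹ (inv_mem hsV) x hx
      rwa [inv_inv] at this
  D_nor := fun c hc y hy => mem_inf.2 ⟨mul_mem (mul_mem hc (mem_inf.1 hy).1) (inv_mem hc), h.CQ' hc (mem_inf.1 hy).2⟩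
  D_Q := fun y hy hyQ => h.meet (mem_inf.2 ⟨hyQ, (mem_inf.1 hy).2⟩)
  D_R := by
    intro y hy hyR
    obtain ⟨a, rfl⟩ := (h.R_iff y).1 hyR
    have := h.V_Q' (mem_inf.1 hy).2
    rw [this, h.e_zero]
  sp := by
    intro w hw hwV
    obtain ⟨c, hc, -⟩ := h.form.exists_ne
    have hc' : N c ≠ 0 := by rw [hc]; exact one_ne_zero
    obtain ⟨u, hu, huc⟩ := h.act_surj c
    obtain ⟨d, hd, hdV, v, hv, h1⟩ := h.al_surj hc' hu huc (inv_mem hw) (inv_mem hwV)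
    refine ⟨u, hu, d, mem_inf.2 ⟨hdV, hd⟩, d⁻¹, mem_inf.2 ⟨inv_mem hdV, inv_mem hd⟩, v⁻¹, inv_mem hv, ?_⟩
    have h2 : w = v⁻¹ * (u * d * u⁻¹ * d⁻¹)⁻¹ := by
      rw [← mul_inv_rev, ← h1, inv_inv]
    rw [h2]; group
  cc := fun w hw hc => h.cc hw hc
  norm := by
    intro c hc _ hcQ
    obtain ⟨v, hv, d, hd, hdV, w, hw, hwV, h1⟩ := h.norm hc hcQ
    exact ⟨v, hv, d, mem_inf.2 ⟨hdV, hd⟩, w, hw, hwV, h1⟩
  big := fun v hv d hd w hw hwV hl => h.big hv (mem_inf.1 hd).2 (mem_inf.1 hd).1 hw hwV hl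

end Cfsg.Agent.Omega.All.NOne

end
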